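import Cfsg.Prelude.Def_LocalStructure
set_option autoImplicit false
set_option linter.unusedSectionVars false
set_option linter.unusedSimpArgs false

namespace Cfsg.Agent.H28.FrakL

open Cfsg

/-- the abstract uniqueness property. -/
def UP (p : ℕ) (Z : Type*) [Group Z] (c : ℕ) : Prop :=
  ∀ Y N V : Subgroup Z, IsElementaryAbelian p Y → Nat.card Y = c → Y ≤ N → N ≠ ⊤ →
    N ≤ Subgroup.normalizer (Y : Set Z) → (∀ W : Subgroup Z, Y ≤ W → W ≠ ⊤ → W ≤ N) →
    V ≤ N → N ≤ Subgroup.normalizer (V : Set Z) → IsElementaryAbelian p V → V ≠ ⊥ → V = Y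

lemma elem_map {p : ℕ} {X Z : Type*} [Group X] [Group Z] (f : X →* Z) {Y : Subgroup X}
    (h : IsElementaryAbelian p Y) : IsElementaryAbelian p (Y.map f) := by
  refine ⟨⟨⟨fun x y => ?_⟩⟩, ?_⟩
  · obtain ⟨_, a, ha, rfl⟩ := x
    obtain ⟨_, b, hb, rfl⟩ := y
    apply Subtype.ext
    have := h.1.is_comm.comm ⟨a, ha⟩ ⟨b, hb⟩
    have h2 : a * b = b * a := congrArg Subtype.val this
    change f a * f b = f b * f a
    rw [← map_mul, ← map_mul, h2]
  · rintro _ ⟨a, ha, rfl⟩
    rw [← map_pow, h.2 a ha, map_one]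

lemma normalizer_map_equiv {X Z : Type*} [Group X] [Group Z] (e : X ≃* Z) {N Y : Subgroup X}
    (h : N ≤ Subgroup.normalizer (Y : Set X)) :
    N.map e.toMonoidHom ≤ Subgroup.normalizer ((Y.map e.toMonoidHom : Subgroup Z) : Set Z) := by
  rintro _ ⟨n, hn, rfl⟩
  rw [Subgroup.mem_normalizer_iff]
  intro z
  have h1 := (Subgroup.mem_normalizer_iff.1 (h hn)) (e.symm z)
  constructor
  · rintro ⟨y, hy, rfl⟩
    have h2 := h1.1 (by simpa using hy)
    refine ⟨_, h2, ?_⟩
    simp
  · rintro ⟨y, hy, hyz⟩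
    refine ⟨e.symm z, ?_, by simp⟩
    apply h1.2
    have : n * e.symm z * n⁻¹ = y := by
      apply e.injective
      have h5 : e y = e n * z * (e n)⁻¹ := hyz
      rw [h5]; simp
    rw [this]; exact hy

lemma UP.of_equiv {p : ℕ} {X Z : Type*} [Group X] [Group Z] (e : X ≃* Z) {c : ℕ}
    (h : UP p Z c) : UP p X c := by
  intro Y N V hY hc hYN hNt hNY hmax hVN hNV hV hVb
  have hinj : Function.Injective e.toMonoidHom := e.injective
  have hsurj : ∀ W : Subgroup X, W.map e.toMonoidHom = ⊤ → W = ⊤ := by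
    intro W hW
    rw [eq_top_iff]
    intro x _
    have : e x ∈ W.map e.toMonoidHom := by rw [hW]; trivial
    obtain ⟨y, hy, hyx⟩ := this
    have : y = x := e.injective hyx
    rwa [← this]
  have key := h (Y.map e.toMonoidHom) (N.map e.toMonoidHom) (V.map e.toMonoidHom)
    (elem_map _ hY) (by rw [Subgroup.card_map_of_injective hinj, hc]) (Subgroup.map_mono hYN)
    (fun ht => hNt (hsurj N ht)) (normalizer_map_equiv e hNY)
    (fun W hW hWt => by
      have h1 : Y ≤ W.comap e.toMonoidHom := fun y hy => hW ⟨y, hy, rfl⟩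
      have h2 : W.comap e.toMonoidHom ≠ ⊤ := by
        intro ht
        apply hWt
        rw [eq_top_iff]
        intro z _
        have : e.symm z ∈ W.comap e.toMonoidHom := by rw [ht]; trivial
        simpa using this
      have h3 := hmax _ h1 h2
      intro z hz
      refine ⟨e.symm z, h3 (by simpa using hz), by simp⟩)
    (Subgroup.map_mono hVN) (normalizer_map_equiv e hNV) (elem_map _ hV)
    (by
      intro hb
      apply hVb
      have := (Subgroup.map_eq_bot_iff_of_injective _ hinj).1 hb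
      exact this)
  exact Subgroup.map_injective hinj key

/-- reduction to a special position. -/
lemma up_of_conj {p : ℕ} {Z : Type*} [Group Z] {c : ℕ} (P : Subgroup Z → Prop)
    (hconj : ∀ Y : Subgroup Z, IsElementaryAbelian p Y → Nat.card Y = c → ∃ e : Z ≃* Z, P (Y.map e.toMonoidHom))
    (h : ∀ Y N V : Subgroup Z, P Y → IsElementaryAbelian p Y → Nat.card Y = c → Y ≤ N → N ≠ ⊤ →
      N ≤ Subgroup.normalizer (Y : Set Z) → (∀ W : Subgroup Z, Y ≤ W → W ≠ ⊤ → W ≤ N) →
      V ≤ N → N ≤ Subgroup.normalizer (V : Set Z) → IsElementaryAbelian p V → V ≠ ⊥ → V = Y) :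
    UP p Z c := by
  intro Y N V hY hc hYN hNt hNY hmax hVN hNV hV hVb
  obtain ⟨e, he⟩ := hconj Y hY hc
  have hinj : Function.Injective e.toMonoidHom := e.injective
  have hsurj : ∀ W : Subgroup Z, W.map e.toMonoidHom = ⊤ → W = ⊤ := by
    intro W hW
    rw [eq_top_iff]
    intro x _
    have : e x ∈ W.map e.toMonoidHom := by rw [hW]; trivial
    obtain ⟨y, hy, hyx⟩ := this
    have : y = x := e.injective hyx
    rwa [← this]
  have key := h (Y.map e.toMonoidHom) (N.map e.toMonoidHom) (V.map e.toMonoidHom) he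
    (elem_map _ hY) (by rw [Subgroup.card_map_of_injective hinj, hc]) (Subgroup.map_mono hYN)
    (fun ht => hNt (hsurj N ht)) (normalizer_map_equiv e hNY)
    (fun W hW hWt => by
      have h1 : Y ≤ W.comap e.toMonoidHom := fun y hy => hW ⟨y, hy, rfl⟩
      have h2 : W.comap e.toMonoidHom ≠ ⊤ := by
        intro ht
        apply hWt
        rw [eq_top_iff]
        intro z _
        have : e.symm z ∈ W.comap e.toMonoidHom := by rw [ht]; trivial
        simpa using this
      have h3 := hmax _ h1 h2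
      intro z hz
      refine ⟨e.symm z, h3 (by simpa using hz), by simp⟩)
    (Subgroup.map_mono hVN) (normalizer_map_equiv e hNV) (elem_map _ hV)
    (by
      intro hb
      apply hVb
      exact (Subgroup.map_eq_bot_iff_of_injective _ hinj).1 hb)
  exact Subgroup.map_injective hinj key

section dihedral

open DihedralGroup

lemma rot_top {r : ℕ} [NeZero r] [Fact r.Prime] {N : Subgroup (DihedralGroup r)} {i j : ZMod r}
    (hi : sr i ∈ N) (hj : (DihedralGroup.r j : DihedralGroup r) ∈ N) (hj0 : j ≠ 0) : N = ⊤ := by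
  have hrot : ∀ t : ZMod r, (DihedralGroup.r t : DihedralGroup r) ∈ N := by
    intro t
    have h1 : ((DihedralGroup.r j : DihedralGroup r)) ^ (t / j).val = DihedralGroup.r t := by
      rw [r_pow, ZMod.natCast_zmod_val, mul_div_cancel₀ _ hj0]
    rw [← h1]
    exact pow_mem hj _
  rw [eq_top_iff]
  rintro x -
  cases x with
  | r t => exact hrot t
  | sr t =>
    have h2 : (sr i : DihedralGroup r) * DihedralGroup.r (t - i) = sr t := by
      rw [sr_mul_r]; congr 1; ring
    rw [← h2]
    exact mul_mem hi (hrot _)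

lemma up_dihedral {r : ℕ} [NeZero r] [Fact r.Prime] (hodd : r ≠ 2) (c : ℕ) (hc : 2 ≤ c) :
    UP 2 (DihedralGroup r) c := by
  intro Y N V hY hcard hYN hNt hNY hmax hVN hNV hV hVb
  have h20 : (2 : ZMod r) ≠ 0 := by
    intro h
    have : ((2 : ℕ) : ZMod r) = 0 := by exact_mod_cast h
    rw [ZMod.natCast_eq_zero_iff] at this
    have h3 := (Nat.prime_dvd_prime_iff_eq (Fact.out : r.Prime) Nat.prime_two).1 this
    exact hodd h3
  have hsr : ∀ x : DihedralGroup r, x ^ 2 = 1 → x ≠ 1 → ∃ k, x = sr k := by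
    intro x hx hne
    cases x with
    | r t =>
      exfalso
      rw [r_pow] at hx
      have h3 : t * ((2 : ℕ) : ZMod r) = 0 := by
        have := hx
        rw [one_def] at this
        exact DihedralGroup.r.inj this
      have h4 : t = 0 := by
        have h5 : ((2 : ℕ) : ZMod r) ≠ 0 := by exact_mod_cast h20
        exact (mul_eq_zero.1 h3).resolve_right h5
      apply hne
      rw [h4, r_zero]
    | sr t => exact ⟨t, rfl⟩
  obtain ⟨y, hyY, hy1⟩ : ∃ y ∈ Y, y ≠ 1 := by
    by_contra hcon
    push Not at hcon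
    have : Y = ⊥ := by
      rw [eq_bot_iff]
      intro x hx
      exact hcon x hx
    rw [this, Subgroup.card_bot] at hcard
    omega
  obtain ⟨i, rfl⟩ := hsr y (hY.2 y hyY) hy1
  have huniq : ∀ w ∈ N, w ^ 2 = 1 → w = 1 ∨ w = sr i := by
    intro w hw hw2
    by_cases hw1 : w = 1
    · exact Or.inl hw1
    · obtain ⟨k, rfl⟩ := hsr w hw2 hw1
      right
      by_contra hne
      have hki : k - i ≠ 0 := by
        intro h
        apply hne
        rw [sub_eq_zero.1 h]
      have h3 : (DihedralGroup.r (k - i) : DihedralGroup r) ∈ N := by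
        rw [← sr_mul_sr]
        exact mul_mem (hYN hyY) hw
      exact hNt (rot_top (hYN hyY) h3 hki)
  have hVy : sr i ∈ V := by
    obtain ⟨v, hv, hv1⟩ : ∃ v ∈ V, v ≠ 1 := by
      by_contra hcon
      push Not at hcon
      apply hVb
      rw [eq_bot_iff]
      intro x hx
      exact hcon x hx
    rcases huniq v (hVN hv) (hV.2 v hv) with h | h
    · exact absurd h hv1
    · rwa [← h]
  apply le_antisymm
  · intro v hv
    rcases huniq v (hVN hv) (hV.2 v hv) with h | h
    · rw [h]; exact one_mem _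
    · rw [h]; exact hyY
  · intro v hv
    rcases huniq v (hYN hv) (hY.2 v hv) with h | h
    · rw [h]; exact one_mem _
    · rw [h]; exact hVy

end dihedral

end Cfsg.Agent.H28.FrakL
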