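import Cfsg.Agent.Lib.H28.FrakL1
import Cfsg.Agent.Lib.H08.L2.Basic
import Cfsg.Agent.Lib.H10.CardSL
set_option autoImplicit false
set_option linter.unusedSectionVars false
set_option linter.unusedSimpArgs false

namespace Cfsg.Agent.H28.FrakL

open Cfsg Cfsg.Agent.H08.L2

variable {F : Type} [Field F] [Fintype F]

lemma card_uni : Nat.card (uni F) = Fintype.card F := by
  have hf : Function.Bijective (fun b : F => (⟨up b, up_mem_uni b⟩ : uni F)) := by
    constructor
    · intro a b h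
      have := congrArg (fun x : uni F => (x : SLt F).1 0 1) h
      simpa using this
    · rintro ⟨g, hg⟩
      refine ⟨g.1 0 1, Subtype.ext ?_⟩
      have h1 := hg.1
      have h2 := hg.2
      have hd := det_rel g
      rw [h1, h2] at hd
      apply slt_ext
      · simp [h2]
      · simp
      · simp [h1]
      · simp only [up_11]; simpa [h1] using hd.symm
  rw [← Nat.card_congr (Equiv.ofBijective _ hf), Nat.card_eq_fintype_card]

lemma up_eq {g : SLt F} (hg : g ∈ uni F) : g = up (g.1 0 1) := by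
  have h1 := hg.1
  have h2 := hg.2
  have hd := det_rel g
  rw [h1, h2] at hd
  apply slt_ext
  · simp [h2]
  · simp
  · simp [h1]
  · simp only [up_11]; simpa [h1] using hd

lemma up_add (a b : F) : up a * up b = up (a + b) := by
  apply slt_ext <;> simp [mul_entry, add_comm]

lemma up_zero : up (0 : F) = 1 := by
  apply slt_ext <;> simp

lemma up_neg (a : F) : (up a)⁻¹ = up (-a) := by
  rw [inv_eq_iff_mul_eq_one, up_add]; simp [up_zero]

/-- the diagonal elements -/
def dg (t : Fˣ) : SLt F := ⟨!![(t : F), 0; 0, (t⁻¹ : Fˣ)], by simp [Matrix.det_fin_two]⟩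

@[simp] lemma dg_00 (t : Fˣ) : (dg t).1 0 0 = t := rfl
@[simp] lemma dg_01 (t : Fˣ) : (dg t).1 0 1 = 0 := rfl
@[simp] lemma dg_10 (t : Fˣ) : (dg t).1 1 0 = 0 := rfl
@[simp] lemma dg_11 (t : Fˣ) : (dg t).1 1 1 = (t⁻¹ : Fˣ) := rfl

lemma dg_conj (t : Fˣ) (b : F) : dg t * up b * (dg t)⁻¹ = up ((t : F) ^ 2 * b) := by
  rw [mul_inv_eq_iff_eq_mul]
  have ht : (t : F) ≠ 0 := t.ne_zero
  apply slt_ext
  · simp [mul_entry]
  · simp [mul_entry]; field_simp
  · simp [mul_entry]
  · simp [mul_entry]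

lemma dg_mem_borel (t : Fˣ) : dg t ∈ borel F := by
  rw [mem_borel]; rfl

lemma borel_pow' (g : SLt F) (hg : g ∈ borel F) (m : ℕ) : (g ^ m).1 0 0 = (g.1 0 0) ^ m := by
  induction m with
  | zero => simp
  | succ m ih =>
    rw [pow_succ, mul_entry, ih, mem_borel.1 hg]
    ring

/-- a `p`-subgroup of order `q` of `SL₂` is a Sylow subgroup -/
lemma sylow_of_card {p : ℕ} [Fact p.Prime] [CharP F p] (R : Subgroup (SLt F)) (hR : IsPGroup p R)
    (hc : Nat.card R = Fintype.card F) : ∃ P : Sylow p (SLt F), (P : Subgroup (SLt F)) = R := by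
  classical
  obtain ⟨P, hP⟩ := hR.exists_le_sylow
  refine ⟨P, ?_⟩
  have hcard : Nat.card (SLt F) = Fintype.card F * (Fintype.card F ^ 2 - 1) :=
    Cfsg.Agent.H10.card_SL_two
  have hq : p ∣ Fintype.card F := by
    obtain ⟨n, hpp, hqn⟩ := FiniteField.card F p
    rw [hqn]
    exact dvd_pow_self p n.ne_zero
  have hq1 : 1 ≤ Fintype.card F := Fintype.card_pos
  have hcop : Nat.Coprime (Nat.card (P : Subgroup (SLt F))) (Fintype.card F ^ 2 - 1) := by
    obtain ⟨k, hk⟩ := (IsPGroup.iff_card.1 P.isPGroup')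
    rw [hk]
    apply Nat.Coprime.pow_left
    rw [Nat.Prime.coprime_iff_not_dvd Fact.out]
    intro h
    have h2 : p ∣ Fintype.card F ^ 2 := dvd_pow hq (by norm_num)
    have h3 : p ∣ 1 := by
      have h4 : Fintype.card F ^ 2 - 1 + 1 = Fintype.card F ^ 2 := by
        have : 1 ≤ Fintype.card F ^ 2 := Nat.one_le_pow _ _ hq1
        omega
      have := (Nat.dvd_add_right h).1 (h4 ▸ h2)
      exact this
    exact (Fact.out : p.Prime).one_lt.ne' (Nat.dvd_one.1 h3)
  have hdvd : Nat.card (P : Subgroup (SLt F)) ∣ Fintype.card F := by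
    have h1 : Nat.card (P : Subgroup (SLt F)) ∣ Fintype.card F * (Fintype.card F ^ 2 - 1) := by
      rw [← hcard]; exact Subgroup.card_subgroup_dvd_card _
    exact hcop.dvd_of_dvd_mul_right h1
  have hle : Nat.card (P : Subgroup (SLt F)) ≤ Nat.card R := by
    rw [hc]; exact Nat.le_of_dvd Fintype.card_pos hdvd
  haveI : Finite (SLt F) := inferInstance
  exact (Subgroup.eq_of_le_of_card_ge hP hle).symm

lemma uni_isP {p : ℕ} [Fact p.Prime] [CharP F p] : IsPGroup p (uni F) := by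
  rw [IsPGroup.iff_card]
  obtain ⟨n, hpp, hqn⟩ := FiniteField.card F p
  exact ⟨n, by rw [card_uni, hqn]⟩

/-- the main statement for `Y = uni`. -/
lemma up_uni_case {p : ℕ} [Fact p.Prime] [CharP F p] (N V : Subgroup (SLt F))
    (hYN : uni F ≤ N) (hNt : N ≠ ⊤)
    (hNY : N ≤ Subgroup.normalizer (uni F : Set (SLt F)))
    (hmax : ∀ W : Subgroup (SLt F), uni F ≤ W → W ≠ ⊤ → W ≤ N)
    (hVN : V ≤ N) (hNV : N ≤ Subgroup.normalizer (V : Set (SLt F)))
    (hV : IsElementaryAbelian p V) (hVb : V ≠ ⊥) : V = uni F := by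
  have hNb : N ≤ borel F := by
    intro g hg
    rw [mem_borel]
    have h1 := (Subgroup.mem_normalizer_iff.1 (hNY hg) (up 1)).1 (up_mem_uni 1)
    have h2 := h1.1
    have h3 : g.1 1 0 ^ 2 = 0 := by
      have h4 : (g * up 1 * g⁻¹).1 1 0 = - g.1 1 0 ^ 2 := by
        rw [mul_entry, mul_entry g, mul_entry g, inv_00, inv_10]
        simp only [up_00, up_01, up_10, up_11]
        ring
      rw [h4] at h2
      simpa using h2
    exact pow_eq_zero_iff (by norm_num) |>.1 h3
  have hbn : borel F ≤ N := by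
    refine hmax _ (fun u hu => hu.1) ?_
    intro ht
    have h1 : lo (1 : F) ∈ borel F := by rw [ht]; trivial
    rw [mem_borel] at h1
    simp at h1
  have hNe : N = borel F := le_antisymm hNb hbn
  have hVu : V ≤ uni F := by
    intro v hv
    have hvb := hNb (hVN hv)
    refine ⟨hvb, ?_⟩
    have h1 := borel_pow' v hvb p
    rw [hV.2 v hv] at h1
    have h2 : (v.1 0 0) ^ p = 1 := by simpa using h1.symm
    have h3 : (v.1 0 0 - 1) ^ p = 0 := by
      rw [sub_pow_char, h2, one_pow, sub_self]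
    have h4 := pow_eq_zero_iff (Fact.out : p.Prime).ne_zero |>.1 h3
    exact sub_eq_zero.1 h4
  obtain ⟨v, hv, hv1⟩ : ∃ v ∈ V, v ≠ 1 := by
    by_contra hcon
    push Not at hcon
    apply hVb
    rw [eq_bot_iff]
    intro x hx
    exact hcon x hx
  set b0 := v.1 0 1 with hb0
  have hvup : v = up b0 := up_eq (hVu hv)
  have hb00 : b0 ≠ 0 := by
    intro h
    apply hv1
    rw [hvup, h, up_zero]
  have hsc : ∀ (s c : F), up c ∈ V → up (s ^ 2 * c) ∈ V := by
    intro s c hc
    by_cases hs : s = 0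
    · rw [hs]
      simp [up_zero, one_mem]
    · have h1 := (Subgroup.mem_normalizer_iff.1 (hNV (hbn (dg_mem_borel (Units.mk0 s hs)))) (up c)).1 hc
      rw [dg_conj] at h1
      simpa using h1
  have hall : ∀ x : F, up (x * b0) ∈ V := by
    intro x
    have hvb : up b0 ∈ V := hvup ▸ hv
    by_cases h2 : (2 : F) = 0
    · haveI : CharP F 2 := CharTwo.of_one_ne_zero_of_two_eq_zero one_ne_zero h2
      obtain ⟨s, hs⟩ := FiniteField.isSquare_of_char_two (ringChar.eq F 2) x
      rw [hs, ← pow_two]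
      exact hsc s b0 hvb
    · have h3 : x * b0 = ((x + 1) / 2) ^ 2 * b0 + - (((x - 1) / 2) ^ 2 * b0) := by
        field_simp
        ring
      rw [h3, ← up_add, ← up_neg]
      exact mul_mem (hsc _ _ hvb) (inv_mem (hsc _ _ hvb))
  apply le_antisymm hVu
  intro u hu
  rw [up_eq hu]
  have : u.1 0 1 = (u.1 0 1 / b0) * b0 := by field_simp
  rw [this]
  exact hall _

theorem up_sl2 {p : ℕ} [Fact p.Prime] : UP p (SLt F) (Fintype.card F) := by
  classical
  obtain ⟨ℓ, hchar⟩ := CharP.exists F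
  obtain ⟨n, hℓ, hqn⟩ := FiniteField.card F ℓ
  haveI : Fact ℓ.Prime := ⟨hℓ⟩
  intro Y N V hY hc
  have hℓp : ℓ = p := by
    have h1 : ℓ ∣ Nat.card Y := by
      rw [hc, hqn]; exact dvd_pow_self ℓ n.ne_zero
    obtain ⟨y, hy⟩ := exists_prime_orderOf_dvd_card' ℓ h1
    have h2 := hY.2 y.1 y.2
    have h3 : y ^ p = 1 := Subtype.ext (by simpa using h2)
    have h4 := orderOf_dvd_of_pow_eq_one h3
    rw [hy] at h4
    exact (Nat.prime_dvd_prime_iff_eq hℓ Fact.out).1 h4
  subst hℓp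
  have hYp : IsPGroup ℓ Y := fun y => ⟨1, Subtype.ext (by simpa using hY.2 y.1 y.2)⟩
  obtain ⟨P, hP⟩ := sylow_of_card Y hYp hc
  obtain ⟨P', hP'⟩ := sylow_of_card (uni F) uni_isP card_uni
  obtain ⟨g, hg⟩ := MulAction.exists_smul_eq (SLt F) P P'
  have hYe : Y.map (MulAut.conj g).toMonoidHom = uni F := by
    rw [← hP', ← hg, Sylow.coe_subgroup_smul, hP]
    rfl
  refine up_of_conj (p := ℓ) (c := Fintype.card F) (fun W => W = uni F) (fun Y' hY' hc' => ?_) ?_ Y N V hY hc
  · obtain ⟨Q, hQ⟩ := sylow_of_card Y' (fun y => ⟨1, Subtype.ext (by simpa using hY'.2 y.1 y.2)⟩) hc'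
    obtain ⟨g', hg'⟩ := MulAction.exists_smul_eq (SLt F) Q P'
    refine ⟨MulAut.conj g', ?_⟩
    rw [← hP', ← hg', Sylow.coe_subgroup_smul, hQ]
    rfl
  · rintro Y N V rfl - - hYN hNt hNY hmax hVN hNV hV hVb
    exact up_uni_case N V hYN hNt hNY hmax hVN hNV hV hVb

end Cfsg.Agent.H28.FrakL
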