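import Cfsg.Agent.Lib.H28.FrakL1
import Cfsg.Agent.Lib.H10.SzSylow
import Cfsg.Agent.Lib.H10.SzBridge
import Cfsg.Agent.Lib.H10.SzTrans
set_option autoImplicit false
set_option linter.unusedSectionVars false
set_option linter.unusedSimpArgs false

namespace Cfsg.Agent.H28.FrakL

open Cfsg Cfsg.Agent.H10

variable {F : Type} [Field F] [Fintype F] [CharP F 2] {m : ℕ}

/-- the centre of the unipotent group -/
def szZ (hF : Fintype.card F = 2 ^ (2 * m + 1)) : Subgroup ↥(Sz F m) where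
  carrier := {g | ∃ b : F, g = uG hF 0 b}
  mul_mem' := by
    rintro _ _ ⟨b, rfl⟩ ⟨d, rfl⟩
    refine ⟨b + d, ?_⟩
    rw [uG_mul]
    simp
  one_mem' := ⟨0, (uG_zero hF).symm⟩
  inv_mem' := by
    rintro _ ⟨b, rfl⟩
    refine ⟨b, ?_⟩
    rw [uG_inv]
    simp

lemma card_szZ (hF : Fintype.card F = 2 ^ (2 * m + 1)) : Nat.card (szZ hF) = Fintype.card F := by
  have hf : Function.Bijective (fun b : F => (⟨uG hF 0 b, b, rfl⟩ : szZ hF)) := by
    constructor
    · intro a b h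
      exact (uG_inj hF (congrArg Subtype.val h)).2
    · rintro ⟨_, b, rfl⟩
      exact ⟨b, rfl⟩
  rw [← Nat.card_congr (Equiv.ofBijective _ hf), Nat.card_eq_fintype_card]

lemma szZ_le_B (hF : Fintype.card F = 2 ^ (2 * m + 1)) : szZ hF ≤ szB F m := by
  rintro _ ⟨b, rfl⟩
  exact uG_mem_B hF 0 b

lemma inv_of_B (hm : 1 ≤ m) (hF : Fintype.card F = 2 ^ (2 * m + 1)) {g : ↥(Sz F m)}
    (hg : g ∈ szB F m) (h2 : g ^ 2 = 1) : g ∈ szZ hF := by
  obtain ⟨a, b, l, rfl⟩ := (mem_B_iff hm hF g).1 hg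
  have h3 : (uG hF a b * hG hF l) ^ 2 =
      uG hF (a + (l : F) * a) (b + (l : F) ^ (2 ^ (m + 1) + 1) * b + a ^ (2 ^ (m + 1)) * ((l : F) * a)) *
        hG hF (l * l) := by
    rw [pow_two, mul_assoc, ← mul_assoc (hG hF l), hG_uG, mul_assoc, hG_mul, ← mul_assoc, uG_mul]
  rw [h3] at h2
  have h4 : uG hF (a + (l : F) * a) (b + (l : F) ^ (2 ^ (m + 1) + 1) * b + a ^ (2 ^ (m + 1)) * ((l : F) * a)) *
      hG hF (l * l) = uG hF (0 : F) 0 * hG hF (1 : Fˣ) := by
    rw [h2, uG_zero, hG_one, one_mul]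
  obtain ⟨h5, h6, h7⟩ := uG_hG_inj hF h4
  have hl : l = 1 := by
    have h8 : ((l : F) + 1) ^ 2 = 0 := by
      have h9 : (l : F) * l = 1 := by
        have := congrArg (fun u : Fˣ => (u : F)) h7
        simpa using this
      have h10 : (2 : F) = 0 := CharTwo.two_eq_zero
      have : ((l : F) + 1) ^ 2 = (l : F) * l + 2 * l + 1 := by ring
      rw [this, h9, h10]
      simp [CharTwo.add_self_eq_zero]
    have h11 := pow_eq_zero_iff (two_ne_zero) |>.1 h8
    have h12 : (l : F) = 1 := by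
      have := CharTwo.add_eq_zero.1 h11
      exact this
    exact Units.ext h12
  subst hl
  simp only [Units.val_one, one_pow, one_mul] at h6
  have h13 : b + b = 0 := CharTwo.add_self_eq_zero b
  rw [h13, zero_add] at h6
  have ha : a = 0 := by
    rcases mul_eq_zero.1 h6 with h14 | h14
    · exact pow_eq_zero_iff (by positivity) |>.1 h14
    · exact h14
  subst ha
  refine ⟨b, ?_⟩
  rw [hG_one, mul_one]

lemma normalizer_Z_le (hF : Fintype.card F = 2 ^ (2 * m + 1)) :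
    Subgroup.normalizer (szZ hF : Set ↥(Sz F m)) ≤ szB F m := by
  intro g hg
  by_contra hgB
  obtain ⟨x, y, hxy⟩ := eq_szPt_of_ne g hgB
  have h1 : g⁻¹ * uG hF 0 (1 : F) * g ∈ szZ hF := by
    have h2 := (Subgroup.mem_normalizer_iff.1 (inv_mem hg) (uG hF 0 (1 : F))).1 ⟨1, rfl⟩
    simpa using h2
  obtain ⟨b', hb'⟩ := h1
  have h3 : uG hF 0 (1 : F) = g * uG hF 0 b' * g⁻¹ := by
    rw [← hb']; group
  have h4 : uG hF 0 (1 : F) • szPt m x y = szPt m x y := by
    rw [← hxy, h3]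
    rw [mul_smul, mul_smul, inv_smul_smul, uG_inf]
  rw [uG_smul] at h4
  have h5 := szPt_inj h4
  have h6 := h5.2
  have h7 : (1 : F) = 0 := by
    have : y + 1 = y := by simpa using h6
    simpa using this
  exact one_ne_zero h7

theorem up_sz (hm : 1 ≤ m) (hF : Fintype.card F = 2 ^ (2 * m + 1)) :
    UP 2 ↥(Sz F m) (Fintype.card F) := by
  classical
  refine up_of_conj (p := 2) (c := Fintype.card F) (fun W => W ≤ szB F m) (fun Y hY hc => ?_) ?_
  · have hYp : IsPGroup 2 Y := fun y => ⟨1, Subtype.ext (by simpa using hY.2 y.1 y.2)⟩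
    obtain ⟨P, hP⟩ := hYp.exists_le_sylow
    obtain ⟨k, hk⟩ := exists_conj_sylow hm hF P
    refine ⟨MulAut.conj k⁻¹, ?_⟩
    rintro _ ⟨y, hy, rfl⟩
    apply szUG_le_B hF
    have := (hk y).1 (hP hy)
    simpa [MulAut.conj_apply] using this
  · intro Y N V hYB hY hc hYN hNt hNY hmax hVN hNV hV hVb
    have hYZ : Y = szZ hF := by
      apply Subgroup.eq_of_le_of_card_ge
      · intro y hy
        exact inv_of_B hm hF (hYB hy) (hY.2 y hy)
      · rw [card_szZ, hc]
    subst hYZ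
    have hNB : N ≤ szB F m := hNY.trans (normalizer_Z_le hF)
    have hBt : szB F m ≠ ⊤ := by
      intro ht
      have h1 := index_B hF
      rw [ht, Subgroup.index_top] at h1
      have : 1 ≤ (2 ^ (2 * m + 1)) ^ 2 := Nat.one_le_pow _ _ (by positivity)
      omega
    have hBN : szB F m ≤ N := hmax _ (szZ_le_B hF) hBt
    have hVZ : V ≤ szZ hF := fun v hv => inv_of_B hm hF (hNB (hVN hv)) (hV.2 v hv)
    obtain ⟨v, hv, hv1⟩ : ∃ v ∈ V, v ≠ 1 := by
      by_contra hcon
      push Not at hcon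
      apply hVb
      rw [eq_bot_iff]
      intro x hx
      exact hcon x hx
    obtain ⟨b0, rfl⟩ := hVZ hv
    have hb0 : b0 ≠ 0 := by
      rintro rfl
      exact hv1 (uG_zero hF)
    apply le_antisymm hVZ
    rintro _ ⟨b, rfl⟩
    by_cases hb : b = 0
    · subst hb
      rw [uG_zero]
      exact one_mem _
    obtain ⟨c, hc'⟩ := exists_pow_eq hF (b / b0)
    have hc0 : c ≠ 0 := by
      rintro rfl
      rw [zero_pow (by positivity)] at hc'
      exact div_ne_zero hb hb0 hc'.symm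
    have h1 := (Subgroup.mem_normalizer_iff.1 (hNV (hBN (hG_mem_B hF (Units.mk0 c hc0)))) _).1 hv
    have h2 : hG hF (Units.mk0 c hc0) * uG hF 0 b0 * (hG hF (Units.mk0 c hc0))⁻¹ = uG hF 0 b := by
      rw [hG_uG, mul_inv_cancel_right]
      simp only [Units.val_mk0, mul_zero]
      rw [hc']
      congr 1
      field_simp
    rwa [h2] at h1


theorem up_lieSz (hm : 1 ≤ m) (hF : Fintype.card F = 2 ^ (2 * m + 1)) :
    UP 2 ↥(Lie.Sz F (2 ^ (m + 1))) (Fintype.card F) :=
  UP.of_equiv (szEquiv hm hF).symm (up_sz hm hF)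

end Cfsg.Agent.H28.FrakL
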