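import Cfsg.Agent.Lib.H28.FrakL1
import Cfsg.Agent.Lib.H10.SzBridge
set_option autoImplicit false
set_option linter.unusedSectionVars false
set_option linter.unusedSimpArgs false

namespace Cfsg.Agent.H28.FrakL

open Cfsg Cfsg.Agent.H10

/-- A direct decision procedure for quantifiers over the field with two elements. -/
@[reducible] def decZ2 (P : ZMod 2 → Prop) [∀ x, Decidable (P x)] : Decidable (∀ x, P x) :=
  decidable_of_iff (P 0 ∧ P 1) ⟨fun h x => by fin_cases x; exacts [h.1, h.2], fun h => ⟨h 0, h 1⟩⟩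

attribute [local instance high] decZ2

set_option synthInstance.maxSize 10000000 in
set_option synthInstance.maxHeartbeats 0 in
set_option maxRecDepth 100000 in
theorem bf_sz2 : ∀ a00 a10 a20 a30 a01 a11 a21 a31 : ZMod 2, (a00 * a11 - a10 * a01 = a00 ∧ a00 * a21 - a20 * a01 = a10 ∧ a10 * a31 - a30 * a11 = a20 ∧ a20 * a31 - a30 * a21 = a30) →
    ∀ a02 a12 a22 a32 : ZMod 2, (a00 * a12 - a10 * a02 = a01 ∧ a00 * a22 - a20 * a02 = a11 ∧ a10 * a32 - a30 * a12 = a21 ∧ a20 * a32 - a30 * a22 = a31) →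
    ∀ a03 a13 a23 a33 : ZMod 2, (a01 * a13 - a11 * a03 = a02 ∧ a01 * a23 - a21 * a03 = a12 ∧ a11 * a33 - a31 * a13 = a22 ∧ a21 * a33 - a31 * a23 = a32) → (a02 * a13 - a12 * a03 = a03 ∧ a02 * a23 - a22 * a03 = a13 ∧ a12 * a33 - a32 * a13 = a23 ∧ a22 * a33 - a32 * a23 = a33) →
    (a00 * a00 + a01 * a10 + a02 * a20 + a03 * a30 = 1 ∧ a00 * a01 + a01 * a11 + a02 * a21 + a03 * a31 = 0 ∧ a00 * a02 + a01 * a12 + a02 * a22 + a03 * a32 = 0 ∧ a00 * a03 + a01 * a13 + a02 * a23 + a03 * a33 = 0 ∧ a10 * a00 + a11 * a10 + a12 * a20 + a13 * a30 = 0 ∧ a10 * a01 + a11 * a11 + a12 * a21 + a13 * a31 = 1 ∧ a10 * a02 + a11 * a12 + a12 * a22 + a13 * a32 = 0 ∧ a10 * a03 + a11 * a13 + a12 * a23 + a13 * a33 = 0 ∧ a20 * a00 + a21 * a10 + a22 * a20 + a23 * a30 = 0 ∧ a20 * a01 + a21 * a11 + a22 * a21 + a23 * a31 = 0 ∧ a20 * a02 + a21 * a12 + a22 * a22 + a23 * a32 = 1 ∧ a20 * a03 + a21 * a13 + a22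 * a23 + a23 * a33 = 0 ∧ a30 * a00 + a31 * a10 + a32 * a20 + a33 * a30 = 0 ∧ a30 * a01 + a31 * a11 + a32 * a21 + a33 * a31 = 0 ∧ a30 * a02 + a31 * a12 + a32 * a22 + a33 * a32 = 0 ∧ a30 * a03 + a31 * a13 + a32 * a23 + a33 * a33 = 1) →
    ¬ (a00 = 1 ∧ a01 = 0 ∧ a02 = 0 ∧ a03 = 0 ∧ a10 = 0 ∧ a11 = 1 ∧ a12 = 0 ∧ a13 = 0 ∧ a20 = 0 ∧ a21 = 0 ∧ a22 = 1 ∧ a23 = 0 ∧ a30 = 0 ∧ a31 = 0 ∧ a32 = 0 ∧ a33 = 1) →
    ((a00 = 0 ∧ a01 = 0 ∧ a02 = 0 ∧ a03 = 1 ∧ a10 = 0 ∧ a11 = 0 ∧ a12 = 1 ∧ a13 = 0 ∧ a20 = 0 ∧ a21 = 1 ∧ a22 = 0 ∧ a23 = 0 ∧ a30 = 1 ∧ a31 = 0 ∧ a32 = 0 ∧ a33 = 0) ∨ (a00 = 1 ∧ a01 = 0 ∧ a02 = 0 ∧ a03 = 0 ∧ a10 = 0 ∧ a11 = 1 ∧ a12 = 0 ∧ a13 = 0 ∧ a20 = 1 ∧ a21 = 0 ∧ a22 = 1 ∧ a23 = 0 ∧ a30 = 1 ∧ a31 = 1 ∧ a32 = 0 ∧ a33 = 1) ∨ (a00 = 1 ∧ a01 = 0 ∧ a02 = 1 ∧ a03 = 1 ∧ a10 = 0 ∧ a11 = 1 ∧ a12 = 0 ∧ a13 = 1 ∧ a20 = 0 ∧ a21 = 0 ∧ a22 = 1 ∧ a23 = 0 ∧ a30 = 0 ∧ a31 = 0 ∧ a32 = 0 ∧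 a33 = 1) ∨ (a00 = 1 ∧ a01 = 1 ∧ a02 = 0 ∧ a03 = 1 ∧ a10 = 1 ∧ a11 = 0 ∧ a12 = 1 ∧ a13 = 0 ∧ a20 = 1 ∧ a21 = 0 ∧ a22 = 0 ∧ a23 = 1 ∧ a30 = 1 ∧ a31 = 1 ∧ a32 = 1 ∧ a33 = 1) ∨ (a00 = 1 ∧ a01 = 1 ∧ a02 = 1 ∧ a03 = 1 ∧ a10 = 1 ∧ a11 = 0 ∧ a12 = 0 ∧ a13 = 1 ∧ a20 = 0 ∧ a21 = 1 ∧ a22 = 0 ∧ a23 = 1 ∧ a30 = 1 ∧ a31 = 0 ∧ a32 = 1 ∧ a33 = 1)) := by
  decide +kernel

/-- an involution of `Sz(2)` -/
def A0 : Matrix (Fin 4) (Fin 4) (ZMod 2) := !![0, 0, 0, 1; 0, 0, 1, 0; 0, 1, 0, 0; 1, 0, 0, 0]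

/-- an involution of `Sz(2)` -/
def A1 : Matrix (Fin 4) (Fin 4) (ZMod 2) := !![1, 0, 0, 0; 0, 1, 0, 0; 1, 0, 1, 0; 1, 1, 0, 1]

/-- an involution of `Sz(2)` -/
def A2 : Matrix (Fin 4) (Fin 4) (ZMod 2) := !![1, 0, 1, 1; 0, 1, 0, 1; 0, 0, 1, 0; 0, 0, 0, 1]

/-- an involution of `Sz(2)` -/
def A3 : Matrix (Fin 4) (Fin 4) (ZMod 2) := !![1, 1, 0, 1; 1, 0, 1, 0; 1, 0, 0, 1; 1, 1, 1, 1]

/-- an involution of `Sz(2)` -/
def A4 : Matrix (Fin 4) (Fin 4) (ZMod 2) := !![1, 1, 1, 1; 1, 0, 0, 1; 0, 1, 0, 1; 1, 0, 1, 1]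

lemma classify_sz2 (M : Matrix (Fin 4) (Fin 4) (ZMod 2)) (hs : Lie.star4 M = M) (h2 : M * M = 1) (hne : M ≠ 1) :
    M = A0 ∨ M = A1 ∨ M = A2 ∨ M = A3 ∨ M = A4 := by
  have e00 : M 0 0 * M 1 1 - M 1 0 * M 0 1 = M 0 0 := by
    simpa [Lie.star4, Lie.pairOf] using congrFun (congrFun hs 0) 0
  have e01 : M 0 0 * M 1 2 - M 1 0 * M 0 2 = M 0 1 := by
    simpa [Lie.star4, Lie.pairOf] using congrFun (congrFun hs 0) 1
  have e02 : M 0 1 * M 1 3 - M 1 1 * M 0 3 = M 0 2 := by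
    simpa [Lie.star4, Lie.pairOf] using congrFun (congrFun hs 0) 2
  have e03 : M 0 2 * M 1 3 - M 1 2 * M 0 3 = M 0 3 := by
    simpa [Lie.star4, Lie.pairOf] using congrFun (congrFun hs 0) 3
  have e10 : M 0 0 * M 2 1 - M 2 0 * M 0 1 = M 1 0 := by
    simpa [Lie.star4, Lie.pairOf] using congrFun (congrFun hs 1) 0
  have e11 : M 0 0 * M 2 2 - M 2 0 * M 0 2 = M 1 1 := by
    simpa [Lie.star4, Lie.pairOf] using congrFun (congrFun hs 1) 1
  have e12 : M 0 1 * M 2 3 - M 2 1 * M 0 3 = M 1 2 := by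
    simpa [Lie.star4, Lie.pairOf] using congrFun (congrFun hs 1) 2
  have e13 : M 0 2 * M 2 3 - M 2 2 * M 0 3 = M 1 3 := by
    simpa [Lie.star4, Lie.pairOf] using congrFun (congrFun hs 1) 3
  have e20 : M 1 0 * M 3 1 - M 3 0 * M 1 1 = M 2 0 := by
    simpa [Lie.star4, Lie.pairOf] using congrFun (congrFun hs 2) 0
  have e21 : M 1 0 * M 3 2 - M 3 0 * M 1 2 = M 2 1 := by
    simpa [Lie.star4, Lie.pairOf] using congrFun (congrFun hs 2) 1
  have e22 : M 1 1 * M 3 3 - M 3 1 * M 1 3 = M 2 2 := by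
    simpa [Lie.star4, Lie.pairOf] using congrFun (congrFun hs 2) 2
  have e23 : M 1 2 * M 3 3 - M 3 2 * M 1 3 = M 2 3 := by
    simpa [Lie.star4, Lie.pairOf] using congrFun (congrFun hs 2) 3
  have e30 : M 2 0 * M 3 1 - M 3 0 * M 2 1 = M 3 0 := by
    simpa [Lie.star4, Lie.pairOf] using congrFun (congrFun hs 3) 0
  have e31 : M 2 0 * M 3 2 - M 3 0 * M 2 2 = M 3 1 := by
    simpa [Lie.star4, Lie.pairOf] using congrFun (congrFun hs 3) 1
  have e32 : M 2 1 * M 3 3 - M 3 1 * M 2 3 = M 3 2 := by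
    simpa [Lie.star4, Lie.pairOf] using congrFun (congrFun hs 3) 2
  have e33 : M 2 2 * M 3 3 - M 3 2 * M 2 3 = M 3 3 := by
    simpa [Lie.star4, Lie.pairOf] using congrFun (congrFun hs 3) 3
  have hI : ∀ i j, M i 0 * M 0 j + M i 1 * M 1 j + M i 2 * M 2 j + M i 3 * M 3 j = (1 : Matrix (Fin 4) (Fin 4) (ZMod 2)) i j := by
    intro i j
    have := congrFun (congrFun h2 i) j
    simpa [Matrix.mul_apply, Fin.sum_univ_four] using this
  have hB := bf_sz2 (M 0 0) (M 1 0) (M 2 0) (M 3 0) (M 0 1) (M 1 1) (M 2 1) (M 3 1)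
    ⟨e00, e10, e20, e30⟩ (M 0 2) (M 1 2) (M 2 2) (M 3 2) ⟨e01, e11, e21, e31⟩ (M 0 3) (M 1 3) (M 2 3) (M 3 3)
    ⟨e02, e12, e22, e32⟩ ⟨e03, e13, e23, e33⟩
    (⟨by simpa using hI 0 0, by simpa using hI 0 1, by simpa using hI 0 2, by simpa using hI 0 3, by simpa using hI 1 0, by simpa using hI 1 1, by simpa using hI 1 2, by simpa using hI 1 3, by simpa using hI 2 0, by simpa using hI 2 1, by simpa using hI 2 2, by simpa using hI 2 3, by simpa using hI 3 0, by simpa using hI 3 1, by simpa using hI 3 2, by simpa using hI 3 3⟩)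
    (by
      rintro ⟨h00, h01, h02, h03, h10, h11, h12, h13, h20, h21, h22, h23, h30, h31, h32, h33⟩
      apply hne
      ext i j
      fin_cases i <;> fin_cases j <;> simp <;> assumption)
  rcases hB with h | h | h | h | h
  · left
    obtain ⟨h00, h01, h02, h03, h10, h11, h12, h13, h20, h21, h22, h23, h30, h31, h32, h33⟩ := h
    ext i j
    fin_cases i <;> fin_cases j <;> simp [A0] <;> assumption
  · right; left
    obtain ⟨h00, h01, h02, h03, h10, h11, h12, h13, h20, h21, h22, h23, h30, h31, h32, h33⟩ := h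
    ext i j
    fin_cases i <;> fin_cases j <;> simp [A1] <;> assumption
  · right; right; left
    obtain ⟨h00, h01, h02, h03, h10, h11, h12, h13, h20, h21, h22, h23, h30, h31, h32, h33⟩ := h
    ext i j
    fin_cases i <;> fin_cases j <;> simp [A2] <;> assumption
  · right; right; right; left
    obtain ⟨h00, h01, h02, h03, h10, h11, h12, h13, h20, h21, h22, h23, h30, h31, h32, h33⟩ := h
    ext i j
    fin_cases i <;> fin_cases j <;> simp [A3] <;> assumption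
  · right; right; right; right
    obtain ⟨h00, h01, h02, h03, h10, h11, h12, h13, h20, h21, h22, h23, h30, h31, h32, h33⟩ := h
    ext i j
    fin_cases i <;> fin_cases j <;> simp [A4] <;> assumption

lemma comm_eq_sz2 {A B : Matrix (Fin 4) (Fin 4) (ZMod 2)}
    (hA : A = A0 ∨ A = A1 ∨ A = A2 ∨ A = A3 ∨ A = A4)
    (hB : B = A0 ∨ B = A1 ∨ B = A2 ∨ B = A3 ∨ B = A4) (h : A * B = B * A) : A = B := by
  rcases hA with rfl | rfl | rfl | rfl | rfl <;> rcases hB with rfl | rfl | rfl | rfl | rfl <;>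
    first
      | rfl
      | exact absurd h (by decide +kernel)

section
variable {F : Type} [Field F] [Fintype F] [CharP F 2]

lemma inSzS_one0 : InSzS (F := F) 0 (1 : Matrix (Fin 4) (Fin 4) F) := by
  refine ⟨by simp, ?_⟩
  ext i j
  fin_cases i <;> fin_cases j <;> simp [Lie.star4, Lie.pairOf, thetaM, Matrix.one_apply]

lemma inSzS_pow0 {M : Matrix (Fin 4) (Fin 4) F} (hM : InSzS 0 M) (n : ℕ) : InSzS 0 (M ^ n) := by
  induction n with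
  | zero => simpa using inSzS_one0
  | succ k ih =>
    rw [pow_succ]
    exact ih.mul hM

lemma inSzS_of_mem0 (g : GL (Fin 4) F) (hg : g ∈ Lie.Sz F (2 ^ (0 + 1))) :
    InSzS 0 (g : Matrix (Fin 4) (Fin 4) F) := by
  induction hg using Subgroup.closure_induction with
  | mem x hx => exact ⟨form_of_mem_Sp4 hx.1, hx.2⟩
  | one => simpa using inSzS_one0
  | mul x y _ _ hx hy =>
    rw [Units.val_mul]
    exact hx.mul hy
  | inv x _ hx =>
    have h1 : x⁻¹ = x ^ (orderOf x - 1) := by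
      have h2 : x ^ (orderOf x - 1) * x = 1 := by
        rw [← pow_succ, Nat.sub_add_cancel (orderOf_pos x), pow_orderOf_eq_one]
      exact inv_eq_of_mul_eq_one_left h2
    rw [h1, Units.val_pow_eq_pow_val]
    exact inSzS_pow0 hx _

lemma thetaM_card2 (hF : Fintype.card F = 2) (M : Matrix (Fin 4) (Fin 4) F) : thetaM 0 M = M := by
  ext i j
  simp only [thetaM, Matrix.map_apply]
  have := FiniteField.pow_card (M i j)
  rw [hF] at this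
  simpa using this

/-- the transport to the prime field -/
noncomputable def toZ2 (hF : Fintype.card F = 2) : Matrix (Fin 4) (Fin 4) F ≃+* Matrix (Fin 4) (Fin 4) (ZMod 2) :=
  (ZMod.ringEquivOfPrime F Nat.prime_two hF).symm.mapMatrix

lemma star4_toZ2 (hF : Fintype.card F = 2) (M : Matrix (Fin 4) (Fin 4) F) :
    Lie.star4 (toZ2 hF M) = toZ2 hF (Lie.star4 M) := by
  ext i j
  simp [toZ2, Lie.star4, map_sub, map_mul]

lemma sz2_comm_inv_eq (hF : Fintype.card F = 2) {g h : GL (Fin 4) F}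
    (hg : g ∈ Lie.Sz F (2 ^ (0 + 1))) (hh : h ∈ Lie.Sz F (2 ^ (0 + 1)))
    (hg2 : g ^ 2 = 1) (hh2 : h ^ 2 = 1) (hg1 : g ≠ 1) (hh1 : h ≠ 1) (hc : g * h = h * g) : g = h := by
  have key : ∀ k : GL (Fin 4) F, k ∈ Lie.Sz F (2 ^ (0 + 1)) → k ^ 2 = 1 → k ≠ 1 →
      (toZ2 hF (k : Matrix (Fin 4) (Fin 4) F) = A0 ∨ toZ2 hF (k : Matrix (Fin 4) (Fin 4) F) = A1 ∨
        toZ2 hF (k : Matrix (Fin 4) (Fin 4) F) = A2 ∨ toZ2 hF (k : Matrix (Fin 4) (Fin 4) F) = A3 ∨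
        toZ2 hF (k : Matrix (Fin 4) (Fin 4) F) = A4) := by
    intro k hk hk2 hk1
    have h1 : Lie.star4 (toZ2 hF (k : Matrix (Fin 4) (Fin 4) F)) = toZ2 hF k := by
      rw [star4_toZ2, (inSzS_of_mem0 k hk).2, thetaM_card2 hF]
    have h2 : toZ2 hF (k : Matrix (Fin 4) (Fin 4) F) * toZ2 hF k = 1 := by
      rw [← map_mul, ← Units.val_mul, ← pow_two, hk2, Units.val_one, map_one]
    have h3 : toZ2 hF (k : Matrix (Fin 4) (Fin 4) F) ≠ 1 := by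
      intro h4
      apply hk1
      apply Units.ext
      rw [Units.val_one]
      apply (toZ2 hF).injective
      rw [h4, map_one]
    exact classify_sz2 _ h1 h2 h3
  have h5 := comm_eq_sz2 (key g hg hg2 hg1) (key h hh hh2 hh1) (by
    rw [← map_mul, ← map_mul, ← Units.val_mul, ← Units.val_mul, hc])
  exact Units.ext ((toZ2 hF).injective h5)

theorem up_lieSz0 (hF : Fintype.card F = 2) : UP 2 ↥(Lie.Sz F (2 ^ (0 + 1))) 2 := by
  intro Y N V hY hc hYN hNt hNY hmax hVN hNV hV hVb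
  have : Finite (GL (Fin 4) F) := inferInstance
  obtain ⟨y, hy, huniq⟩ := (Nat.card_eq_two_iff' (1 : Y)).1 hc
  have hy1 : (y : ↥(Lie.Sz F (2 ^ (0 + 1)))) ≠ 1 := fun h => hy (Subtype.ext h)
  have hYel : ∀ z ∈ Y, z = 1 ∨ z = y.1 := by
    intro z hz
    by_cases h1 : z = 1
    · exact Or.inl h1
    · right
      have := huniq ⟨z, hz⟩ (fun h => h1 (congrArg Subtype.val h))
      exact congrArg Subtype.val this
  have hcomm : ∀ n ∈ N, n * y.1 = y.1 * n := by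
    intro n hn
    have h1 := (Subgroup.mem_normalizer_iff.1 (hNY hn) y.1).1 y.2
    rcases hYel _ h1 with h2 | h2
    · exfalso
      apply hy1
      have : n * y.1 * n⁻¹ = 1 := h2
      have h3 : n * y.1 = n := by
        calc n * y.1 = n * y.1 * n⁻¹ * n := by group
          _ = n := by rw [this, one_mul]
      exact mul_eq_left.1 h3
    · calc n * y.1 = n * y.1 * n⁻¹ * n := by group
        _ = y.1 * n := by rw [h2]
  have hinv : ∀ v ∈ V, v ≠ 1 → v = y.1 := by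
    intro v hv hv1
    have h1 := hV.2 v hv
    have h2 := hY.2 y.1 y.2
    have h3 := hcomm v (hVN hv)
    apply Subtype.ext
    apply sz2_comm_inv_eq hF v.2 y.1.2
    · exact congrArg Subtype.val h1
    · exact congrArg Subtype.val h2
    · exact fun h => hv1 (Subtype.ext h)
    · exact fun h => hy1 (Subtype.ext h)
    · exact congrArg Subtype.val h3
  obtain ⟨v0, hv0, hv01⟩ : ∃ v ∈ V, v ≠ 1 := by
    by_contra hcon
    push Not at hcon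
    apply hVb
    rw [eq_bot_iff]
    intro x hx
    exact hcon x hx
  have hyV : y.1 ∈ V := by
    rw [← hinv v0 hv0 hv01]
    exact hv0
  apply le_antisymm
  · intro v hv
    by_cases h1 : v = 1
    · rw [h1]; exact one_mem _
    · rw [hinv v hv h1]; exact y.2
  · intro z hz
    rcases hYel z hz with h | h
    · rw [h]; exact one_mem _
    · rw [h]; exact hyV

end

end Cfsg.Agent.H28.FrakL
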