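import Cfsg.Agent.Lib.H28.FrakL1
import Cfsg.Agent.Lib.H28.FrakL2
import Cfsg.Agent.Lib.H28.FrakL3
import Cfsg.Agent.Lib.H28.FrakL4
set_option autoImplicit false
set_option linter.unusedSectionVars false
set_option linter.unusedSimpArgs false

namespace Cfsg.Agent.H28.FrakL

open Cfsg

section elem
variable {Z : Type*} [Group Z] {p : ℕ}

lemma pReduced_comm {V W : Subgroup Z} (hV : IsPReducedNormal p V) (hW : IsPReducedNormal p W)
    {x y : Z} (hx : x ∈ V) (hy : y ∈ W) : x * y = y * x := by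
  obtain ⟨hVn, hVe, -⟩ := hV
  obtain ⟨_, _, hn, hb⟩ := hW
  have hle : V.map (QuotientGroup.mk' (Subgroup.centralizer (W : Set Z))) ≤
      pCore p (Z ⧸ Subgroup.centralizer (W : Set Z)) := by
    apply le_sSup
    refine ⟨hVn.map _ (QuotientGroup.mk'_surjective _), ?_⟩
    rintro ⟨_, a, ha, rfl⟩
    refine ⟨1, ?_⟩
    apply Subtype.ext
    change (QuotientGroup.mk' (Subgroup.centralizer (W : Set Z)) a) ^ (p ^ 1) = 1
    rw [pow_one, ← map_pow, hVe.2 a ha, map_one]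
  rw [hb] at hle
  have h1 : QuotientGroup.mk' (Subgroup.centralizer (W : Set Z)) x = 1 := by
    have := hle ⟨x, hx, rfl⟩
    exact Subgroup.mem_bot.1 this
  have h2 : x ∈ Subgroup.centralizer (W : Set Z) := (QuotientGroup.eq_one_iff x).1 h1
  exact (Subgroup.mem_centralizer_iff.1 h2 y hy).symm

lemma elem_sSup (S : Set (Subgroup Z)) (h1 : ∀ V ∈ S, IsElementaryAbelian p V)
    (hc : ∀ V ∈ S, ∀ W ∈ S, ∀ x ∈ V, ∀ y ∈ W, x * y = y * x) : IsElementaryAbelian p (sSup S) := by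
  have step1 : ∀ W ∈ S, ∀ y ∈ W, ∀ x ∈ sSup S, x * y = y * x := by
    intro W hW y hy
    have : sSup S ≤ Subgroup.centralizer ({y} : Set Z) := by
      apply sSup_le
      intro V hV x hx
      rw [Subgroup.mem_centralizer_iff]
      rintro _ rfl
      exact (hc V hV W hW x hx _ hy).symm
    intro x hx
    have h2 := this hx
    rw [Subgroup.mem_centralizer_iff] at h2
    exact (h2 y rfl).symm
  have step2 : ∀ x ∈ sSup S, ∀ y ∈ sSup S, x * y = y * x := by
    intro x hx y hy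
    have : sSup S ≤ Subgroup.centralizer ({x} : Set Z) := by
      apply sSup_le
      intro W hW z hz
      rw [Subgroup.mem_centralizer_iff]
      rintro _ rfl
      exact step1 W hW z hz _ hx
    have h2 := this hy
    rw [Subgroup.mem_centralizer_iff] at h2
    exact h2 x rfl
  refine ⟨⟨⟨fun a b => Subtype.ext (step2 a a.2 b b.2)⟩⟩, ?_⟩
  let Om : Subgroup Z :=
    { carrier := {x | x ∈ sSup S ∧ x ^ p = 1}
      mul_mem' := by
        rintro a b ⟨ha, ha'⟩ ⟨hb, hb'⟩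
        refine ⟨mul_mem ha hb, ?_⟩
        have hab : Commute a b := step2 a ha b hb
        rw [hab.mul_pow, ha', hb', one_mul]
      one_mem' := ⟨one_mem _, one_pow _⟩
      inv_mem' := by
        rintro a ⟨ha, ha'⟩
        exact ⟨inv_mem ha, by rw [inv_pow, ha', inv_one]⟩ }
  have : sSup S ≤ Om := sSup_le (fun V hV x hx => ⟨(le_sSup hV) hx, (h1 V hV).2 x hx⟩)
  exact fun a ha => (this ha).2

lemma largest_elem (M : Subgroup Z) : IsElementaryAbelian p (largestPReducedOf p M) := by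
  unfold largestPReducedOf largestPReduced
  apply elem_map
  apply elem_sSup
  · exact fun V hV => hV.2.1
  · exact fun V hV W hW x hx y hy => pReduced_comm hV hW hx hy

lemma elem_subgroupOf {Y : Subgroup Z} (K : Subgroup Z) (h : IsElementaryAbelian p Y) :
    IsElementaryAbelian p (Y.subgroupOf K) := by
  refine ⟨⟨⟨fun x y => ?_⟩⟩, ?_⟩
  · apply Subtype.ext
    apply Subtype.ext
    have := h.1.is_comm.comm ⟨x.1.1, x.2⟩ ⟨y.1.1, y.2⟩
    have h2 : (x.1.1 * y.1.1 : Z) = y.1.1 * x.1.1 := congrArg Subtype.val this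
    exact h2
  · intro a ha
    apply Subtype.ext
    simpa using h.2 a.1 ha

end elem

section main
variable {G : Type*} [Group G] {p : ℕ}

/-- the image of `Y` in the quotient -/
abbrev YX (p : ℕ) (Y L : Subgroup G) : Subgroup (↥L ⧸ pCore p ↥L) :=
  (Y.subgroupOf L).map (QuotientGroup.mk' (pCore p ↥L))

/-- the image of `N_L(Y)` in the quotient -/
abbrev NX (p : ℕ) (NL L : Subgroup G) : Subgroup (↥L ⧸ pCore p ↥L) :=
  (NL.subgroupOf L).map (QuotientGroup.mk' (pCore p ↥L))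

lemma hmaxX {Y L NL : Subgroup G} (hYL : Y ≤ L) (hmx : ∀ X : Subgroup G, Y ≤ X → X < L → X ≤ NL) :
    ∀ W : Subgroup (↥L ⧸ pCore p ↥L), YX p Y L ≤ W → W ≠ ⊤ → W ≤ NX p NL L := by
  intro W hYW hWt
  let W' : Subgroup G := (W.comap (QuotientGroup.mk' (pCore p ↥L))).map L.subtype
  have h1 : Y ≤ W' := fun y hy => ⟨⟨y, hYL hy⟩, hYW ⟨⟨y, hYL hy⟩, hy, rfl⟩, rfl⟩
  have h2 : W' < L := by
    refine lt_of_le_of_ne (Subgroup.map_subtype_le _) ?_
    intro he
    apply hWt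
    rw [eq_top_iff]
    intro x _
    obtain ⟨l, rfl⟩ := QuotientGroup.mk'_surjective (pCore p ↥L) x
    have h3 : l.1 ∈ W' := by rw [he]; exact l.2
    obtain ⟨l', hl', e⟩ := h3
    have h4 : l' = l := Subtype.ext e
    subst h4
    exact hl'
  have h3 := hmx W' h1 h2
  intro x hx
  obtain ⟨l, rfl⟩ := QuotientGroup.mk'_surjective (pCore p ↥L) x
  exact ⟨l, h3 ⟨l, hx, rfl⟩, rfl⟩

lemma hNXne {Y L NL : Subgroup G} (hNL : NL = L ⊓ Subgroup.normalizer (Y : Set G))
    (hAN : pCoreOf p L ≤ Subgroup.normalizer (Y : Set G)) (hlt : NL < L) : NX p NL L ≠ ⊤ := by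
  intro h
  apply not_le_of_gt hlt
  intro l hl
  have h1 : QuotientGroup.mk' (pCore p ↥L) ⟨l, hl⟩ ∈ NX p NL L := by
    rw [h]; exact Subgroup.mem_top _
  obtain ⟨n, hn, e⟩ := h1
  have h2 : n⁻¹ * ⟨l, hl⟩ ∈ pCore p ↥L := QuotientGroup.eq.1 e
  have h3 : ((n⁻¹ * ⟨l, hl⟩ : ↥L) : G) ∈ pCoreOf p L := ⟨_, h2, rfl⟩
  have h4 : (n : G) ∈ NL := hn
  have h5 : (n : G) ∈ Subgroup.normalizer (Y : Set G) := by
    rw [hNL] at h4; exact h4.2
  have h6 : l = (n : G) * ((n⁻¹ * ⟨l, hl⟩ : ↥L) : G) := by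
    simp
  rw [hNL]
  refine ⟨hl, ?_⟩
  rw [h6]
  exact mul_mem h5 (hAN h3)

lemma card_YX {Y L : Subgroup G} (hYL : Y ≤ L) :
    Nat.card (YX p Y L) = (Y ⊓ pCoreOf p L).relIndex Y := by
  let f : ↥Y →* (↥L ⧸ pCore p ↥L) := (QuotientGroup.mk' (pCore p ↥L)).comp (Subgroup.inclusion hYL)
  have h1 : (Y ⊓ pCoreOf p L).subgroupOf Y = f.ker := by
    ext y
    rw [Subgroup.mem_subgroupOf, MonoidHom.mem_ker]
    constructor
    · rintro ⟨-, l, hl, e⟩
      have : Subgroup.inclusion hYL y = l := Subtype.ext e.symm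
      change QuotientGroup.mk' (pCore p ↥L) (Subgroup.inclusion hYL y) = 1
      rw [this]
      exact (QuotientGroup.eq_one_iff l).2 hl
    · intro h
      refine ⟨y.2, Subgroup.inclusion hYL y, (QuotientGroup.eq_one_iff _).1 h, rfl⟩
  have h2 : f.range = YX p Y L := by
    ext x
    constructor
    · rintro ⟨y, rfl⟩
      exact ⟨Subgroup.inclusion hYL y, y.2, rfl⟩
    · rintro ⟨l, hl, rfl⟩
      exact ⟨⟨l.1, hl⟩, rfl⟩
  rw [Subgroup.relIndex, h1, Subgroup.index_ker, h2]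

theorem main_generic [Finite G] (Y L NL : Subgroup G)
    (hNL : NL = L ⊓ Subgroup.normalizer (Y : Set G))
    [hn : ((pCoreOf p L).subgroupOf NL).Normal]
    (hYL : Y ≤ L) (hAN : pCoreOf p L ≤ Subgroup.normalizer (Y : Set G))
    (hY : IsElementaryAbelian p Y) (hlt : NL < L)
    (hmx : ∀ X : Subgroup G, Y ≤ X → X < L → X ≤ NL)
    (hU : UP p (↥L ⧸ pCore p ↥L) (Nat.card (YX p Y L))) (hne : YX p Y L ≠ ⊥) :
    let Ybar : Subgroup (↥NL ⧸ ((pCoreOf p L)).subgroupOf NL) :=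
      (Y.subgroupOf NL).map (QuotientGroup.mk' ((pCoreOf p L).subgroupOf NL));
    Ybar ≠ ⊥ ∧ Ybar.Normal ∧ IsElementaryAbelian p Ybar ∧
      ∀ V : Subgroup (↥NL ⧸ (pCoreOf p L).subgroupOf NL), V.Normal → IsElementaryAbelian p V →
        V ≠ ⊥ → V = Ybar := by
  intro Ybar
  have hNLL : NL ≤ L := hlt.le
  have hNLN : ∀ n ∈ NL, n ∈ Subgroup.normalizer (Y : Set G) := by
    intro n hn
    rw [hNL] at hn
    exact hn.2
  have hYNL : Y ≤ NL := by
    rw [hNL]
    exact le_inf hYL Subgroup.le_normalizer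
  let π := QuotientGroup.mk' (pCore p ↥L)
  let incl : ↥NL →* ↥L := Subgroup.inclusion hNLL
  let ρ : ↥NL →* (↥L ⧸ pCore p ↥L) := π.comp incl
  have hker : ∀ n : ↥NL, ρ n = 1 ↔ n ∈ (pCoreOf p L).subgroupOf NL := by
    intro n
    rw [Subgroup.mem_subgroupOf]
    constructor
    · intro h
      exact ⟨incl n, (QuotientGroup.eq_one_iff _).1 h, rfl⟩
    · rintro ⟨l, hl, e⟩
      have h1 : incl n = l := Subtype.ext e.symm
      change π (incl n) = 1
      rw [h1]
      exact (QuotientGroup.eq_one_iff l).2 hl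
  let ψ : (↥NL ⧸ (pCoreOf p L).subgroupOf NL) →* (↥L ⧸ pCore p ↥L) :=
    QuotientGroup.lift ((pCoreOf p L).subgroupOf NL) ρ (fun n hn => (hker n).2 hn)
  have ψ_mk : ∀ n : ↥NL, ψ (QuotientGroup.mk' ((pCoreOf p L).subgroupOf NL) n) = ρ n := fun n => rfl
  have hψ : Function.Injective ψ := by
    refine (injective_iff_map_eq_one ψ).2 ?_
    intro q hq
    obtain ⟨n, rfl⟩ := QuotientGroup.mk'_surjective _ q
    rw [ψ_mk] at hq
    exact (QuotientGroup.eq_one_iff n).2 ((hker n).1 hq)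
  have hYbar : Ybar.map ψ = YX p Y L := by
    ext x
    constructor
    · rintro ⟨_, ⟨n, hn, rfl⟩, rfl⟩
      exact ⟨incl n, hn, rfl⟩
    · rintro ⟨l, hl, rfl⟩
      exact ⟨_, ⟨⟨l.1, hYNL hl⟩, hl, rfl⟩, rfl⟩
  have hrange : ψ.range = NX p NL L := by
    ext x
    constructor
    · rintro ⟨q, rfl⟩
      obtain ⟨n, rfl⟩ := QuotientGroup.mk'_surjective _ q
      exact ⟨incl n, n.2, rfl⟩
    · rintro ⟨l, hl, rfl⟩
      exact ⟨QuotientGroup.mk' ((pCoreOf p L).subgroupOf NL) ⟨l.1, hl⟩, rfl⟩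
  have hYnorm : (Y.subgroupOf NL).Normal := by
    refine ⟨fun n hn g => ?_⟩
    rw [Subgroup.mem_subgroupOf] at hn ⊢
    have := (Subgroup.mem_normalizer_iff.1 (hNLN g.1 g.2) n.1).1 hn
    simpa using this
  refine ⟨?_, ?_, ?_, ?_⟩
  · intro h
    apply hne
    rw [← hYbar, h, Subgroup.map_bot]
  · exact hYnorm.map _ (QuotientGroup.mk'_surjective _)
  · exact elem_map _ (elem_subgroupOf NL hY)
  · intro V hVn hVe hV1
    apply Subgroup.map_injective hψ
    rw [hYbar]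
    have hNLnorm : NL.subgroupOf L ≤ Subgroup.normalizer ((Y.subgroupOf L : Subgroup ↥L) : Set ↥L) := by
      intro n hn
      rw [Subgroup.mem_normalizer_iff]
      intro h
      rw [Subgroup.mem_subgroupOf, Subgroup.mem_subgroupOf]
      have := Subgroup.mem_normalizer_iff.1 (hNLN n.1 hn) h.1
      simpa using this
    have hYN : Y.subgroupOf L ≤ NL.subgroupOf L := fun y hy => hYNL hy
    have hVnorm : ψ.range ≤ Subgroup.normalizer ((V.map ψ : Subgroup _) : Set _) := by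
      have h1 := Subgroup.le_normalizer_map (H := V) ψ
      rw [Subgroup.normalizer_eq_top_iff.2 hVn] at h1
      rwa [MonoidHom.range_eq_map]
    refine hU (YX p Y L) (NX p NL L) (V.map ψ) (elem_map _ (elem_subgroupOf L hY)) rfl
      (Subgroup.map_mono hYN) (hNXne hNL hAN hlt)
      ((Subgroup.map_mono hNLnorm).trans (Subgroup.le_normalizer_map _)) (hmaxX hYL hmx)
      (hrange ▸ Subgroup.map_le_range ψ V) (hrange ▸ hVnorm) (elem_map _ hVe) ?_
    intro h
    exact hV1 ((Subgroup.map_eq_bot_iff_of_injective V hψ).1 h)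

theorem frak_up [Finite G] [Fact p.Prime] (Y L NL : Subgroup G)
    (hYL : Y ≤ L) (hNt : NX p NL L ≠ ⊤)
    (hmax : ∀ W : Subgroup (↥L ⧸ pCore p ↥L), YX p Y L ≤ W → W ≠ ⊤ → W ≤ NX p NL L)
    (halt : (∃ (F : Type) (_ : Field F) (_ : Fintype F),
        Fintype.card F = (Y ⊓ pCoreOf p L).relIndex Y ∧
          Nonempty (↥L ⧸ pCore p ↥L ≃* Matrix.SpecialLinearGroup (Fin 2) F)) ∨
      (p = 2 ∧ ∃ (F : Type) (_ : Field F) (_ : Fintype F) (m : ℕ),
        Fintype.card F = 2 ^ (2 * m + 1) ∧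
          Fintype.card F = (Y ⊓ pCoreOf p L).relIndex Y ∧
            Nonempty (↥L ⧸ pCore p ↥L ≃* ↥(Lie.Sz F (2 ^ (m + 1))))) ∨
      (p = 2 ∧ ∃ r : ℕ, r.Prime ∧ r ≠ 2 ∧ Nonempty (↥L ⧸ pCore p ↥L ≃* DihedralGroup r))) :
    UP p (↥L ⧸ pCore p ↥L) (Nat.card (YX p Y L)) ∧ YX p Y L ≠ ⊥ := by
  have hcard := card_YX (p := p) hYL
  rcases halt with ⟨F, _, _, hc, ⟨e⟩⟩ | ⟨hp, F, _, _, m, hF, hc, ⟨e⟩⟩ | ⟨hp, r, hr, hr2, ⟨e⟩⟩
  · have h2 : 1 < Fintype.card F := Fintype.one_lt_card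
    have hcc : Nat.card (YX p Y L) = Fintype.card F := hcard.trans hc.symm
    refine ⟨by rw [hcc]; exact UP.of_equiv e up_sl2, ?_⟩
    intro hb
    rw [hb, Subgroup.card_bot] at hcc
    omega
  · subst hp
    have h2 : 1 < Fintype.card F := Fintype.one_lt_card
    have hcc : Nat.card (YX 2 Y L) = Fintype.card F := hcard.trans hc.symm
    have h20 : (2 : F) = 0 := by
      have h3 : ((Fintype.card F : ℕ) : F) = 0 := Nat.cast_card_eq_zero F
      rw [hF] at h3
      push_cast at h3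
      exact pow_eq_zero_iff (by omega) |>.1 h3
    haveI : CharP F 2 := CharTwo.of_one_ne_zero_of_two_eq_zero one_ne_zero h20
    refine ⟨?_, ?_⟩
    · rw [hcc]
      rcases Nat.eq_zero_or_pos m with rfl | hm
      · have hF2 : Fintype.card F = 2 := by simpa using hF
        rw [hF2]
        exact UP.of_equiv e (up_lieSz0 hF2)
      · exact UP.of_equiv e (up_lieSz hm hF)
    · intro hb
      rw [hb, Subgroup.card_bot] at hcc
      omega
  · subst hp
    haveI : Fact r.Prime := ⟨hr⟩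
    haveI : NeZero r := ⟨hr.ne_zero⟩
    have hne : YX 2 Y L ≠ ⊥ := by
      intro hb
      apply hNt
      rw [eq_top_iff]
      intro x _
      have hz : Subgroup.zpowers x ≠ ⊤ := by
        intro ht
        have h5 : IsCyclic (↥L ⧸ pCore 2 ↥L) := isCyclic_iff_exists_zpowers_eq_top.2 ⟨x, ht⟩
        exact DihedralGroup.not_isCyclic hr.ne_one (e.isCyclic.1 h5)
      exact hmax _ (by rw [hb]; exact bot_le) hz (Subgroup.mem_zpowers x)
    refine ⟨UP.of_equiv e (up_dihedral hr2 _ ?_), hne⟩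
    exact (Subgroup.one_lt_card_iff_ne_bot _).2 hne

end main

end Cfsg.Agent.H28.FrakL
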