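import Cfsg.Agent.Lib.H28.GSL4d

set_option autoImplicit false
set_option linter.style.haveILetI false
set_option linter.unusedSectionVars false
set_option linter.unusedSimpArgs false

namespace Cfsg.Agent.H28

open scoped MatrixGroups Matrix commutatorElement Kronecker
open Cfsg Cfsg.Geo

section LiftOdd

variable {ι : Type} [Fintype ι] [DecidableEq ι] {F : Type*} [Field F] [Fintype F] [Nonempty ι]
variable {H N : Subgroup (GL ι F)}

/-- In a cyclic group, a non-power generates the quotient by the `r`-th powers. -/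
lemma cyc_pow {r : ℕ} (hr : r.Prime) (a b : Fˣ) (hb : ∀ c : Fˣ, b ≠ c ^ r) :
    ∃ (k : ℕ) (c : Fˣ), a * b ^ k = c ^ r := by
  obtain ⟨g, hg⟩ := IsCyclic.exists_generator (α := Fˣ)
  have hfin : ∀ x : Fˣ, ∃ n : ℕ, g ^ n = x := by
    intro x
    obtain ⟨n, hn⟩ := mem_powers_iff_mem_zpowers.2 (hg x)
    exact ⟨n, hn⟩
  obtain ⟨i, rfl⟩ := hfin a
  obtain ⟨j, rfl⟩ := hfin b
  have hj : ¬ r ∣ j := by
    rintro ⟨d, rfl⟩
    exact hb (g ^ d) (by rw [← pow_mul, mul_comm])
  have hcop : Nat.Coprime j r := ((Nat.Prime.coprime_iff_not_dvd hr).2 hj).symm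
  obtain ⟨m, hm⟩ := Nat.exists_mul_mod_eq_one_of_coprime hcop hr.one_lt
  have hd : r ∣ i + j * (m * ((r - 1) * i)) := by
    have h1 : j * (m * ((r - 1) * i)) = (j * m) * ((r - 1) * i) := by ring
    rw [h1]
    have h2 : j * m = r * (j * m / r) + 1 := by
      have := Nat.div_add_mod (j * m) r
      omega
    rw [h2]
    have h3 : r = (r - 1) + 1 := by
      have := hr.one_lt
      omega
    refine ⟨(j * m / r) * ((r - 1) * i) + i, ?_⟩
    have h4 : (r * (j * m / r) + 1) * ((r - 1) * i) = r * (j * m / r) * ((r - 1) * i) + (r - 1) * i := by ring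
    rw [h4]
    generalize r - 1 = s at h3
    subst h3
    ring
  obtain ⟨d, hd⟩ := hd
  refine ⟨m * ((r - 1) * i), g ^ d, ?_⟩
  rw [← pow_mul, ← pow_add, ← pow_mul, hd, mul_comm]

/-- The data for an odd prime `r`. -/
theorem exists_xdata_odd (hN : NormalIn N H) (hNa : AbsIrr N) (hc : ⁅N, N⁆ ≤ scalars ι F)
    (hd : ∀ M : Subgroup (GL ι F), NormalIn M H → M ≤ scalars ι F ∨ AbsIrr M)
    (hmin : ∀ M, NormalIn M H → ¬ M ≤ scalars ι F → M ≤ N → M = N) (hn : 2 ≤ Fintype.card ι) {r s : ℕ}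
    (hr : r.Prime) (hodd : Odd r)
    (hcard : Fintype.card ι = r ^ s) : ∃ (ω : F) (R : Subgroup (GL ι F)), XData H N R ω r := by
  classical
  haveI : Fact r.Prime := ⟨hr⟩
  have hpow := min_pow_mem hN hNa hc hmin hn (r := r) hr hcard
  have hcm : ∀ x ∈ N, ∀ y ∈ N, ⁅x, y⁆ ^ r = 1 := fun x hx y hy => commutator_pow_eq_one hNa hc hpow hx hy
  obtain ⟨x₀, hx₀, y₀, hy₀, hne⟩ := hNa.exists_not_comm hn
  obtain ⟨w, hw⟩ := exists_sc (hc (Subgroup.commutator_mem_commutator hx₀ hy₀))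
  have hw3 : w ^ r = 1 := sc_inj (ι := ι) (by rw [sc_pow, ← hw, hcm x₀ hx₀ y₀ hy₀, sc_one])
  have hw1 : w ≠ 1 := by
    rintro rfl
    rw [sc_one, commutatorElement_eq_one_iff_mul_comm] at hw
    exact hne hw
  have hprim : IsPrimitiveRoot (w : F) r := by
    rw [IsPrimitiveRoot.coe_units_iff, ← orderOf_eq_prime hw3 hw1]
    exact IsPrimitiveRoot.orderOf w
  have hNZc : ∀ x ∈ NZ N, ∀ y ∈ NZ N, ⁅x, y⁆ ^ r = 1 := by
    rintro _ ⟨c, x, hx, rfl⟩ _ ⟨d, y, hy, rfl⟩
    rw [commutator_sc_mul]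
    exact hcm x hx y hy
  have hpm : ∀ x ∈ NZ N, ∀ y ∈ NZ N, (x * y) ^ r = x ^ r * y ^ r := by
    intro x hx y hy
    have hz := NZ_commutator hc hy hx
    have h1 : y * x = ⁅y, x⁆ * (x * y) := by rw [commutatorElement_def]; group
    rw [mul_pow_central (scalars_le_center hz) h1 r]
    have h2 : r ∣ Nat.choose r 2 := by
      obtain ⟨t, ht⟩ := hodd
      have h3 : Nat.choose r 2 = r * t := by
        rw [Nat.choose_two_right, ht]
        have h4 : 2 * t + 1 - 1 = 2 * t := by omega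
        rw [h4]
        have h5 : (2 * t + 1) * (2 * t) = 2 * ((2 * t + 1) * t) := by ring
        rw [h5, Nat.mul_div_cancel_left _ (by norm_num)]
      exact ⟨t, h3⟩
    obtain ⟨t, ht⟩ := h2
    rw [ht, pow_mul, hNZc y hy x hx, one_pow, one_mul]
  -- the elements whose `r`-th power is the `r`-th power of a scalar
  let M : Subgroup (GL ι F) :=
    { carrier := {x | x ∈ N ∧ ∃ c : Fˣ, x ^ r = sc (c ^ r)}
      mul_mem' := by
        rintro x y ⟨hx, c, hc'⟩ ⟨hy, d, hd'⟩
        refine ⟨N.mul_mem hx hy, c * d, ?_⟩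
        rw [hpm x (le_NZ N hx) y (le_NZ N hy), hc', hd', ← sc_mul, mul_pow]
      one_mem' := ⟨N.one_mem, 1, by simp [sc_one]⟩
      inv_mem' := by
        rintro x ⟨hx, c, hc'⟩
        refine ⟨N.inv_mem hx, c⁻¹, ?_⟩
        rw [inv_pow, hc', inv_pow, sc_inv] }
  have hMN : NormalIn M H := by
    refine ⟨fun x hx => hN.1 hx.1, ?_⟩
    rintro h hh x ⟨hx, c, hc'⟩
    refine ⟨hN.2 h hh x hx, c, ?_⟩
    rw [conj_pow, hc', ← sc_central]
    group
  have hx₀ns : x₀ ∉ scalars ι F := by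
    intro h
    exact hne (Subgroup.mem_center_iff.1 (scalars_le_center h) y₀).symm
  have hMns : ¬ M ≤ scalars ι F := by
    intro hle
    apply hx₀ns
    apply hNa.mem_scalars
    intro y hy
    obtain ⟨a, ha⟩ := exists_sc (hpow y hy)
    obtain ⟨b, hb⟩ := exists_sc (hpow x₀ hx₀)
    have hB : ∀ c : Fˣ, b ≠ c ^ r := by
      rintro c rfl
      exact hx₀ns (hle ⟨hx₀, c, hb⟩)
    obtain ⟨k, c, hc'⟩ := cyc_pow hr a b hB
    have hpk : ∀ k : ℕ, (x₀ ^ k) ^ r = sc (b ^ k) := by
      intro k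
      rw [← pow_mul, mul_comm, pow_mul, hb, sc_pow]
    have h1 : y * x₀ ^ k ∈ scalars ι F := by
      apply hle
      refine ⟨N.mul_mem hy (N.pow_mem hx₀ k), c, ?_⟩
      rw [hpm y (le_NZ N hy) (x₀ ^ k) (le_NZ N (N.pow_mem hx₀ k)), ha, hpk, ← sc_mul, hc']
    have h2 := Subgroup.mem_center_iff.1 (scalars_le_center h1) x₀
    have h3 : x₀ * y * x₀ ^ k = y * x₀ * x₀ ^ k := by
      calc x₀ * y * x₀ ^ k = x₀ * (y * x₀ ^ k) := by group
        _ = y * x₀ ^ k * x₀ := h2
        _ = y * (x₀ ^ k * x₀) := by group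
        _ = y * (x₀ * x₀ ^ k) := by rw [← pow_succ, pow_succ']
        _ = y * x₀ * x₀ ^ k := by group
    exact mul_right_cancel h3
  have hMeq : M = N := hmin M hMN hMns (fun x hx => hx.1)
  have hlift : ∀ x ∈ N, ∃ c : Fˣ, (sc c * x) ^ r = 1 := by
    intro x hx
    rw [← hMeq] at hx
    obtain ⟨_, c, hc'⟩ := hx
    refine ⟨c⁻¹, ?_⟩
    rw [(show Commute (sc c⁻¹ : GL ι F) x from sc_central _ _).mul_pow, hc', ← sc_pow, ← sc_mul]
    simp [sc_one]
  let R : Subgroup (GL ι F) :=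
    { carrier := {g | g ∈ NZ N ∧ g ^ r = 1}
      mul_mem' := by
        rintro x y ⟨hx, hx'⟩ ⟨hy, hy'⟩
        exact ⟨(NZ N).mul_mem hx hy, by rw [hpm x hx y hy, hx', hy', one_mul]⟩
      one_mem' := ⟨(NZ N).one_mem, one_pow _⟩
      inv_mem' := by
        rintro x ⟨hx, hx'⟩
        exact ⟨(NZ N).inv_mem hx, by rw [inv_pow, hx', inv_one]⟩ }
  refine ⟨w, R, ⟨hN, hNa, hc, hd, fun g hg => hg.1, ?_, ?_, hprim, fun x hx => hx.2, ?_⟩⟩
  · rintro h hh x ⟨hx, hx'⟩
    refine ⟨NZ_conj hN hh hx, ?_⟩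
    rw [conj_pow, hx']
    group
  · intro x hx
    obtain ⟨c, hc'⟩ := hlift x hx
    exact ⟨c, sc_mul_mem_NZ hx c, hc'⟩
  · intro c
    constructor
    · rintro ⟨_, h⟩
      have h1 : c ^ r = 1 := sc_inj (ι := ι) (by rw [sc_pow, h, sc_one])
      have h2 := congrArg Units.val h1
      simpa using h2
    · intro h
      refine ⟨sc_mem_NZ N c, ?_⟩
      rw [← sc_pow]
      have h1 : c ^ r = 1 := Units.ext (by simpa using h)
      rw [h1, sc_one]

end LiftOdd

section FieldAnalysis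

variable {ι : Type} [Fintype ι] [DecidableEq ι] {F : Type*} [Field F] [Fintype F] [Nonempty ι]
variable {H N R : Subgroup (GL ι F)} {ζ : F} {m : ℕ}

/-- The field analysis for the group `R`. -/
theorem xdata_field (hX : XData H N R ζ m)
    (hm1 : 1 < m) (hm3 : ∀ a : ℕ, a.Coprime m → m ∣ a ^ 2 - 1 → m ∣ a - 1 ∨ m ∣ a + 1) {r t : ℕ} (hr : r.Prime)
    (hmt : m = r ^ t) :
    (∃ (F₁ : Subfield F) (r' : ℕ) (P : GL ι F), r'.Prime ∧ Fintype.card F = Nat.card F₁ ^ r' ∧
        H ≤ subfieldSubgroup F₁ P) ∨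
    (∃ (σ : F ≃+* F) (f : (ι → F) → (ι → F) → F), IsUnitaryForm σ f ∧ H ≤ similarityGroup f) ∨
    (∃ p e : ℕ, r ≠ p ∧ Odd e ∧ IsMinimalFieldFor m p e F) := by
  have hm0 : 0 < m := by omega
  obtain ⟨P, hP⟩ := exists_mono_basis hX.absIrr hX.commR hm0 hX.prim hX.exp
  obtain ⟨p, hchar, n, hpp, hn⟩ := FiniteField.card' F
  haveI := hchar
  haveI : Fact p.Prime := ⟨hpp⟩
  set e : ℕ := (n : ℕ) with he
  have he0 : 0 < e := n.pos
  have hprim := hX.prim
  have hζ0 : ζ ≠ 0 := hprim.ne_zero hm0.ne'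
  have hrp : r ≠ p := by
    rintro rfl
    have h1 : ζ ^ r ^ t = 1 := by rw [← hmt]; exact hprim.pow_eq_one
    have h2 : (ζ - 1) ^ r ^ t = 0 := by rw [sub_pow_char_pow, h1, one_pow, sub_self]
    have h3 : ζ = 1 := sub_eq_zero.1 ((pow_eq_zero_iff (pow_ne_zero _ hr.ne_zero)).1 h2)
    exact hprim.ne_one hm1 h3
  have hcop : p.Coprime m := by
    rw [hmt]
    exact Nat.Coprime.pow_right _ ((Nat.coprime_primes hpp hr).2 hrp.symm)
  have hle := hX.le_normalizer
  have hNR := normalIn_normalizer R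
  have hpowk : ∀ k, m ∣ p ^ k - 1 → ζ ^ p ^ k = ζ := by
    intro k hk
    obtain ⟨b, hb⟩ := hk
    have hpos : 1 ≤ p ^ k := Nat.one_le_pow _ _ hpp.pos
    have e1 : p ^ k = m * b + 1 := by omega
    rw [e1, pow_succ, pow_mul, hprim.pow_eq_one, one_pow, one_mul]
  by_cases hk : ∃ k, 0 < k ∧ k < e ∧ m ∣ p ^ k - 1
  · left
    obtain ⟨k, hk0, hke, hkd⟩ := hk
    have hne := fixedSub_ne_top (F := F) p k e hk0 hke hn
    have hζmem : ζ ∈ fixedSub F p k := (mem_fixedSub p k).2 (hpowk k hkd)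
    have hB : ∀ g ∈ R, ∀ i j, (((P⁻¹ : GL ι F) : Matrix ι ι F) * (g : Matrix ι ι F) *
        (((P⁻¹)⁻¹ : GL ι F) : Matrix ι ι F)) i j ∈ fixedSub F p k := by
      intro g hg i j
      rw [inv_inv]
      obtain ⟨π, d', hm⟩ := hP g hg
      rw [hm]
      split_ifs
      · exact (fixedSub F p k).pow_mem hζmem _
      · exact (fixedSub F p k).zero_mem
    obtain ⟨F₁, r', τ, h01, hr', hcard, hτ⟩ := exists_prime_index_subfield hne
    have hle' := le_subfield_of_realisable hNR hX.absIrr τ hτ (B := P⁻¹) (fun g hg i j => h01 (hB g hg i j))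
    exact ⟨F₁, r', (P⁻¹)⁻¹, hr', hcard, hle.trans hle'⟩
  push Not at hk
  have hdvd : m ∣ p ^ e - 1 := by
    apply hprim.dvd_of_pow_eq_one
    rw [← hn]
    exact FiniteField.pow_card_sub_one_eq_one ζ hζ0
  rcases Nat.even_or_odd e with heven | hodde
  · -- the unitary case
    right
    left
    obtain ⟨m', hm'⟩ := heven
    have hm0' : 0 < m' := by omega
    have hcard : Fintype.card F = p ^ (2 * m') := by rw [hn, hm', two_mul]
    obtain ⟨σ, hσ, hσ1, hσ2⟩ := exists_involution (F := F) p m' hm0' hcard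
    have hdm : m ∣ p ^ m' + 1 := by
      have h1 : (p ^ m').Coprime m := Nat.Coprime.pow_left _ hcop
      have h2 : m ∣ (p ^ m') ^ 2 - 1 := by
        rw [← pow_mul, show m' * 2 = e by omega]
        exact hdvd
      rcases hm3 _ h1 h2 with h | h
      · exact absurd h (hk m' hm0' (by omega))
      · exact h
    have hcσ : ∀ a : ℕ, ζ ^ a * σ (ζ ^ a) = 1 := by
      intro a
      obtain ⟨b, hb⟩ := hdm
      rw [hσ, ← pow_mul, ← pow_add, show a + a * p ^ m' = (p ^ m' + 1) * a by ring, hb, mul_assoc, pow_mul,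
        hprim.pow_eq_one, one_pow]
    have hfix : ∀ g ∈ R, ∀ u v, stdForm σ P ((g : Matrix ι ι F) *ᵥ u) ((g : Matrix ι ι F) *ᵥ v) =
        stdForm σ P u v := by
      intro g hg u v
      obtain ⟨π, d', hm''⟩ := IsMono.gen (hP g hg)
      exact stdForm_mono hm'' (fun i => hcσ _) u v
    have hle' := le_sim_of_fixes hNR hX.absIrr (stdForm_sesq σ P) (stdForm_nondeg_left σ P) hfix
    exact ⟨σ, _, stdForm_unitary P hσ1 hσ2, hle.trans hle'⟩
  · right
    right
    exact ⟨p, e, hrp, hodde, hpp, hchar, hn, hdvd, hk⟩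

end FieldAnalysis

section WreathTwo

variable {F : Type*} [Field F] [Fintype F] {k : ℕ}

/-- The general form of the tensor power of the plane. -/
theorem wreath_two_gram {ι : Type} [Fintype ι] [DecidableEq ι] (hk0 : 0 < k) (e : ι ≃ (Fin k → Fin 2)) (B : GL ι F) :
    ∃ C : GL ι F, tensorWreathSubgroup 2 k e B ≤ similarityGroup (gramForm (C : Matrix ι ι F)) ∧
      (∀ x y, gramForm (C : Matrix ι ι F) y x = (-1) ^ k * gramForm (C : Matrix ι ι F) x y) ∧
      ((2 : F) = 0 ∨ Odd k → ∀ x, gramForm (C : Matrix ι ι F) x x = 0) := by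
  classical
  let J : GL ι F := glReindex e.symm (epsJ k)
  have hJv : (J : Matrix ι ι F) = ((epsJ k : GL (Fin k → Fin 2) F) : Matrix _ _ F).submatrix e e := rfl
  -- the Gram matrix
  let BT : GL ι F := ⟨((B⁻¹ : GL ι F) : Matrix ι ι F)ᵀ, (B : Matrix ι ι F)ᵀ, by
    rw [← Matrix.transpose_mul, ← Units.val_mul, mul_inv_cancel, Units.val_one, Matrix.transpose_one], by
    rw [← Matrix.transpose_mul, ← Units.val_mul, inv_mul_cancel, Units.val_one, Matrix.transpose_one]⟩
  let C : GL ι F := BT * J * B⁻¹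
  have hCv : (C : Matrix ι ι F) = ((B⁻¹ : GL ι F) : Matrix ι ι F)ᵀ * (J : Matrix ι ι F) *
      ((B⁻¹ : GL ι F) : Matrix ι ι F) := rfl
  have hJs : ∀ a b, (J : Matrix ι ι F) b a = (-1) ^ k * (J : Matrix ι ι F) a b := by
    intro a b
    rw [hJv]
    simp only [Matrix.submatrix_apply]
    rw [epsJ_apply, epsJ_apply]
    have h1 : ∏ i, (eps2 : Matrix (Fin 2) (Fin 2) F) (e b i) (e a i) =
        ∏ i : Fin k, (- (eps2 : Matrix (Fin 2) (Fin 2) F) (e a i) (e b i)) :=
      Finset.prod_congr rfl fun i _ => eps2_skew _ _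
    rw [h1, Finset.prod_neg]
    simp
  have hJd : ∀ a, (J : Matrix ι ι F) a a = 0 := by
    intro a
    rw [hJv]
    exact epsJ_diag hk0 _
  have hCm : ∀ x y, gramForm (C : Matrix ι ι F) x y = gramForm (J : Matrix ι ι F)
        (((B⁻¹ : GL ι F) : Matrix ι ι F) *ᵥ x) (((B⁻¹ : GL ι F) : Matrix ι ι F) *ᵥ y) := by
    intro x y
    rw [gramForm_mulVec, hCv]
  have hJform : ∀ x y, gramForm (J : Matrix ι ι F) y x = (-1) ^ k * gramForm (J : Matrix ι ι F) x y := by
    intro x y
    simp only [gramForm, dotProduct, Matrix.mulVec, Finset.mul_sum]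
    rw [Finset.sum_comm]
    refine Finset.sum_congr rfl fun a _ => Finset.sum_congr rfl fun b _ => ?_
    rw [hJs a b]
    ring
  refine ⟨C, ?_, fun x y => ?_, ?_⟩
  · intro g hg
    obtain ⟨Q, hQ, hgQ⟩ := exists_of_mem_wreath hg
    obtain ⟨c, hc⟩ := wreath_std_sim hQ
    refine ⟨c, fun u v => ?_⟩
    rw [gramForm_mulVec]
    -- compute the Gram matrix of the conjugate
    have hBg : ((B⁻¹ : GL ι F) : Matrix ι ι F) * (g : Matrix ι ι F) =
        (Q : Matrix (Fin k → Fin 2) (Fin k → Fin 2) F).submatrix e e * ((B⁻¹ : GL ι F) : Matrix ι ι F) := by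
      have e : (B : Matrix ι ι F) * ((B⁻¹ : GL ι F) : Matrix ι ι F) = 1 := by
        rw [← Units.val_mul, mul_inv_cancel, Units.val_one]
      rw [← hgQ, Matrix.mul_assoc _ (B : Matrix ι ι F), e, Matrix.mul_one]
    have hq : ((Q : Matrix (Fin k → Fin 2) (Fin k → Fin 2) F).submatrix e e)ᵀ * (J : Matrix ι ι F) *
        (Q : Matrix (Fin k → Fin 2) (Fin k → Fin 2) F).submatrix e e = (c : F) • (J : Matrix ι ι F) := by
      rw [hJv, Matrix.transpose_submatrix, Matrix.submatrix_mul_equiv, Matrix.submatrix_mul_equiv, hc]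
      rfl
    have hmat : (g : Matrix ι ι F)ᵀ * (C : Matrix ι ι F) * (g : Matrix ι ι F) = (c : F) • (C : Matrix ι ι F) := by
      rw [hCv]
      calc _ = (((B⁻¹ : GL ι F) : Matrix ι ι F) * (g : Matrix ι ι F))ᵀ * (J : Matrix ι ι F) *
            (((B⁻¹ : GL ι F) : Matrix ι ι F) * (g : Matrix ι ι F)) := by
            rw [Matrix.transpose_mul]
            noncomm_ring
        _ = ((B⁻¹ : GL ι F) : Matrix ι ι F)ᵀ * (((Q : Matrix (Fin k → Fin 2) (Fin k → Fin 2) F).submatrix e e)ᵀ *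
            (J : Matrix ι ι F) * (Q : Matrix (Fin k → Fin 2) (Fin k → Fin 2) F).submatrix e e) *
            ((B⁻¹ : GL ι F) : Matrix ι ι F) := by
            rw [hBg, Matrix.transpose_mul]
            noncomm_ring
        _ = _ := by
            rw [hq, Matrix.mul_smul, Matrix.smul_mul]
    rw [hmat]
    simp only [gramForm, Matrix.smul_mulVec, dotProduct_smul, smul_eq_mul]
  · rw [hCm, hCm, hJform]
  · intro hcase x
    rw [hCm]
    refine gramForm_alt (fun a b => ?_) hJd _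
    rw [hJs a b]
    rcases hcase with h2 | hodd
    · have h1 : (-1 : F) = 1 := by linear_combination -h2
      rw [h1, one_pow, one_mul]
      linear_combination ((J : Matrix ι ι F) a b) * h2
    · rw [hodd.neg_one_pow]
      ring

end WreathTwo

section FormClauses

variable {ι : Type} [Fintype ι] [DecidableEq ι] {F : Type*} [Field F] 

/-- The quadratic form attached to a symmetric bilinear form. -/
lemma quad_of_symm {f : (ι → F) → (ι → F) → F} (hfb : IsBilinearForm f) (hnd : ∀ x, x ≠ 0 → ∃ v, f x v ≠ 0)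
    (hs : ∀ x y, f x y = f y x) (h2 : (2 : F) ≠ 0) : IsNondegenerateQuadraticForm (fun x => f x x) := by
  have hpol : ∀ x y, QuadraticMap.polar (fun x => f x x) x y = 2 * f x y := by
    intro x y
    simp only [QuadraticMap.polar, hfb.add_left, hfb.add_right]
    rw [hs y x]
    ring
  exact { smul := fun c v => by
            simp only [hfb.smul_left, hfb.smul_right]
            ring
          polar_bilinear :=
            { add_left := fun x y v => by
                rw [hpol, hpol, hpol, hfb.add_left]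
                ring
              smul_left := fun c x v => by
                rw [hpol, hpol, hfb.smul_left]
                ring
              add_right := fun v x y => by
                rw [hpol, hpol, hpol, hfb.add_right]
                ring
              smul_right := fun c v x => by
                rw [hpol, hpol, hfb.smul_right]
                ring }
          nondegenerate := fun v hv => by
            obtain ⟨w, hw⟩ := hnd v hv
            refine ⟨⟨w, ?_⟩, ⟨w, ?_⟩⟩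
            · rw [hpol, hs w v]
              exact mul_ne_zero h2 hw
            · rw [hpol]
              exact mul_ne_zero h2 hw }

lemma quad_sim_of_sim {f : (ι → F) → (ι → F) → F} : similarityGroup f ≤ quadSimilarityGroup (fun x => f x x) := by
  rintro g ⟨c, hc⟩
  exact ⟨c, fun v => hc v v⟩

end FormClauses

end Cfsg.Agent.H28
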