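import Cfsg.Agent.Lib.H28.PSpOrd3
set_option autoImplicit false
set_option linter.unusedSectionVars false
set_option linter.unusedSimpArgs false

namespace Cfsg.Agent.H28.PSpOrd

open Polynomial UniqueFactorizationMonoid

variable {F : Type*} [Field F]

lemma pow_sub_one_dvd {a b : ℕ} (h : a ∣ b) : (X ^ a - 1 : F[X]) ∣ X ^ b - 1 := by
  obtain ⟨c, rfl⟩ := h
  rw [pow_mul]
  simpa using sub_dvd_pow_sub_pow (X ^ a : F[X]) 1 c

lemma xsub_natDegree : (X - 1 : F[X]).natDegree = 1 := by
  simpa using natDegree_X_sub_C (1 : F)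

lemma xadd_natDegree : (X + 1 : F[X]).natDegree = 1 := by
  simpa using natDegree_X_add_C (1 : F)

lemma two_mul_le_pow {p m : ℕ} (hp : 2 ≤ p) (hm : 1 ≤ m) : 2 * m ≤ p ^ m := by
  have h1 := le_two_pow_pred m hm
  have h2 : 2 ^ m ≤ p ^ m := Nat.pow_le_pow_left hp m
  have h3 : 2 ^ m = 2 * 2 ^ (m - 1) := by
    rw [← pow_succ']; congr 1; omega
  omega

open Classical in
lemma case_two [Fintype F] (μ : F[X]) (hμ : μ.Monic) (h0 : μ.coeff 0 ≠ 0)
    (m : ℕ) (hm : 1 ≤ m) (hd : μ.natDegree ≤ 2 * m)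
    (hall : ∀ f ∈ normalizedFactors μ, f = X - 1 ∨ f = X + 1) :
    ∃ N, 0 < N ∧ (Fintype.card F - 1) * N ≤ Fintype.card F ^ (m + 1) ∧
      (μ ∣ X ^ N - 1 ∨ μ ∣ X ^ N + 1) := by
  obtain ⟨p, hchar⟩ := CharP.exists F
  obtain ⟨n, hpp, hqn⟩ := FiniteField.card F p
  haveI : Fact p.Prime := ⟨hpp⟩
  set q := Fintype.card F with hqdef
  have hp2 : 2 ≤ p := hpp.two_le
  have hpq : p ≤ q := by rw [hqn]; exact Nat.le_self_pow n.ne_zero p
  have hq2 : 2 ≤ q := hp2.trans hpq
  have hμ0 : μ ≠ 0 := hμ.ne_zero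
  have hdeg := deg_sum hμ h0
  have hdeg1 : ∀ f ∈ normalizedFactors μ, f.natDegree = 1 := by
    intro f hf
    rcases hall f hf with rfl | rfl
    · exact xsub_natDegree
    · exact xadd_natDegree
  have hcount : ∀ f ∈ normalizedFactors μ, (normalizedFactors μ).count f ≤ 2 * m := by
    intro f hf
    have := Finset.single_le_sum (f := fun h => (normalizedFactors μ).count h * h.natDegree)
      (fun _ _ => Nat.zero_le _) (Multiset.mem_toFinset.2 hf)
    simp only [hdeg1 f hf, mul_one] at this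
    omega
  have h2m : 2 * m ≤ p ^ m := two_mul_le_pow hp2 hm
  have hbound : (q - 1) * p ^ m ≤ q ^ (m + 1) := by
    rw [pow_succ']
    exact Nat.mul_le_mul (by omega) (Nat.pow_le_pow_left hpq m)
  have hxs : (X - 1 : F[X]) ≠ 0 := by simpa using X_sub_C_ne_zero (1 : F)
  have hxa : (X + 1 : F[X]) ≠ 0 := by simpa using X_add_C_ne_zero (1 : F)
  have hppos : 0 < p ^ m := by positivity
  by_cases hγ : (X - 1 : F[X]) ∈ normalizedFactors μ ∧ (X + 1 : F[X]) ∈ normalizedFactors μ ∧
      (X - 1 : F[X]) ≠ X + 1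
  · obtain ⟨h1, h2, hne⟩ := hγ
    have hp3 : 3 ≤ p := by
      by_contra hlt
      have hp : p = 2 := by omega
      subst hp
      haveI : CharP F 2 := hchar
      apply hne
      rw [CharTwo.sub_eq_add]
    have hsum : (normalizedFactors μ).count (X - 1) + (normalizedFactors μ).count (X + 1) ≤ 2 * m := by
      have hsub : ({X - 1, X + 1} : Finset F[X]) ⊆ (normalizedFactors μ).toFinset := by
        intro x hx
        rcases Finset.mem_insert.1 hx with rfl | hx
        · exact Multiset.mem_toFinset.2 h1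
        · rw [Finset.mem_singleton.1 hx]; exact Multiset.mem_toFinset.2 h2
      have := Finset.sum_le_sum_of_subset (f := fun h => (normalizedFactors μ).count h * h.natDegree) hsub
      rw [Finset.sum_pair hne, xsub_natDegree, xadd_natDegree] at this
      simp only [mul_one] at this
      omega
    have hc1 : 1 ≤ (normalizedFactors μ).count (X - 1) := Multiset.count_pos.2 h1
    have hc2 : 1 ≤ (normalizedFactors μ).count (X + 1) := Multiset.count_pos.2 h2
    have h3m : 2 * m - 1 ≤ p ^ (m - 1) :=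
      (le_three_pow_pred m hm).trans (Nat.pow_le_pow_left hp3 _)
    have hR : (X - 1 : F[X]) * (X + 1) ≠ 0 := mul_ne_zero hxs hxa
    have hdvd := dvd_of_factors μ ((X - 1) * (X + 1)) hμ0 hR (p ^ (m - 1))
      (fun f hf => by
        rcases hall f hf with rfl | rfl
        · exact dvd_mul_right _ _
        · exact dvd_mul_left _ _)
      (fun f hf => by
        rcases hall f hf with rfl | rfl
        · omega
        · omega)
    have hR2 : ((X - 1 : F[X]) * (X + 1)) ^ p ^ (m - 1) = X ^ (2 * p ^ (m - 1)) - 1 := by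
      have : (X - 1 : F[X]) * (X + 1) = X ^ 2 - 1 := by ring
      rw [this, sub_pow_char_pow, one_pow, ← pow_mul]
    rw [hR2] at hdvd
    refine ⟨2 * p ^ (m - 1), by positivity, ?_, Or.inl hdvd⟩
    have h4 : (q - 1) * 2 ≤ q ^ 2 := by
      obtain ⟨r, hr⟩ : ∃ r, q = r + 1 := ⟨q - 1, by omega⟩
      rw [hr]; simp only [Nat.add_sub_cancel]; nlinarith
    calc (q - 1) * (2 * p ^ (m - 1)) = ((q - 1) * 2) * p ^ (m - 1) := by ring
      _ ≤ q ^ 2 * q ^ (m - 1) := Nat.mul_le_mul h4 (Nat.pow_le_pow_left hpq _)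
      _ = q ^ (m + 1) := by rw [← pow_add]; congr 1; omega
  · have hsplit : (∀ f ∈ normalizedFactors μ, f = X - 1) ∨ (∀ f ∈ normalizedFactors μ, f = X + 1) := by
      by_cases h1 : (X - 1 : F[X]) ∈ normalizedFactors μ
      · left
        intro f hf
        rcases hall f hf with rfl | rfl
        · rfl
        · by_cases hne : (X - 1 : F[X]) = X + 1
          · exact hne.symm
          · exact absurd ⟨h1, hf, hne⟩ hγ
      · right
        intro f hf
        rcases hall f hf with rfl | rfl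
        · exact absurd hf h1
        · rfl
    rcases hsplit with h | h
    · refine ⟨p ^ m, hppos, hbound, Or.inl ?_⟩
      have := dvd_of_factors μ (X - 1) hμ0 hxs (p ^ m) (fun f hf => by rw [h f hf])
        (fun f hf => (hcount f hf).trans h2m)
      rwa [sub_pow_char_pow, one_pow] at this
    · refine ⟨p ^ m, hppos, hbound, Or.inr ?_⟩
      have := dvd_of_factors μ (X + 1) hμ0 hxa (p ^ m) (fun f hf => by rw [h f hf])
        (fun f hf => (hcount f hf).trans h2m)
      rwa [add_pow_char_pow, one_pow] at this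

end Cfsg.Agent.H28.PSpOrd
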