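import Cfsg.Agent.Lib.H28.PSpOrd4
set_option autoImplicit false
set_option linter.unusedSectionVars false
set_option linter.unusedSimpArgs false

namespace Cfsg.Agent.H28.PSpOrd

open Polynomial UniqueFactorizationMonoid

variable {F : Type*} [Field F]

lemma rev_X : (X : F[X]).reverse = 1 := by
  have h1 : (1 : F[X]).reverse = 1 := by simpa using reverse_C (1 : F)
  simpa [h1] using reverse_X_mul (1 : F[X])

lemma rev_xsub : (X - 1 : F[X]).reverse = 1 - X := by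
  have h9 : (X - 1 : F[X]) = X + C (-1) := by simp only [map_neg, map_one, sub_eq_add_neg]
  rw [h9, reverse_add_C, rev_X]
  simp [sub_eq_add_neg]

lemma rev_xadd : (X + 1 : F[X]).reverse = 1 + X := by
  have h9 : (X + 1 : F[X]) = X + C 1 := by simp only [map_one]
  rw [h9, reverse_add_C, rev_X]
  simp

open Classical in
lemma case_one [Fintype F] (μ : F[X]) (hμ : μ.Monic) (h0 : μ.coeff 0 ≠ 0) (hrev : μ.reverse ∣ μ)
    (m : ℕ) (hd : μ.natDegree ≤ 2 * m)
    (hex : ∃ f ∈ normalizedFactors μ, f ≠ X - 1 ∧ f ≠ X + 1) :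
    ∃ N, 0 < N ∧ (Fintype.card F - 1) * N ≤ Fintype.card F ^ (m + 1) ∧
      (μ ∣ X ^ N - 1 ∨ μ ∣ X ^ N + 1) := by
  obtain ⟨p, hchar⟩ := CharP.exists F
  obtain ⟨n, hpp, hqn⟩ := FiniteField.card F p
  haveI : Fact p.Prime := ⟨hpp⟩
  set q := Fintype.card F with hqdef
  have hp2 : 2 ≤ p := hpp.two_le
  have hpq : p ≤ q := by rw [hqn]; exact Nat.le_self_pow n.ne_zero p
  have hq2 : 2 ≤ q := hp2.trans hpq
  have hμ0 : μ ≠ 0 := hμ.ne_zero
  have hdeg := deg_sum hμ h0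
  set M := normalizedFactors μ with hM
  set I := M.toFinset with hI
  set e : F[X] → ℕ := fun h => M.count h with he
  have hmemI : ∀ {h}, h ∈ I ↔ h ∈ M := fun {h} => Multiset.mem_toFinset
  set Nl := I.filter (fun h => h ≠ X - 1 ∧ h ≠ X + 1) with hNl
  set L := I.filter (fun h => ¬ (h ≠ X - 1 ∧ h ≠ X + 1)) with hL
  set T1 := Nl.filter (fun h => h ∣ h.reverse) with hT1d
  set T2 := Nl.filter (fun h => ¬ h ∣ h.reverse) with hT2d
  set S := T1.image (fun h => h.natDegree / 2) with hSd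
  set P := T2.image natDegree with hPd
  have hT1I : ∀ {h}, h ∈ T1 → h ∈ M ∧ h ≠ X - 1 ∧ h ≠ X + 1 ∧ h ∣ h.reverse := by
    intro h hh
    obtain ⟨h1, h2⟩ := Finset.mem_filter.1 hh
    obtain ⟨h3, h4, h5⟩ := Finset.mem_filter.1 h1
    exact ⟨hmemI.1 h3, h4, h5, h2⟩
  have hT2I : ∀ {h}, h ∈ T2 → h ∈ M ∧ h ≠ X - 1 ∧ h ≠ X + 1 ∧ ¬ h ∣ h.reverse := by
    intro h hh
    obtain ⟨h1, h2⟩ := Finset.mem_filter.1 hh
    obtain ⟨h3, h4, h5⟩ := Finset.mem_filter.1 h1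
    exact ⟨hmemI.1 h3, h4, h5, h2⟩
  have hT1 : ∀ h ∈ T1, ∃ k, h.natDegree = 2 * k ∧ k ≠ 0 ∧ h ∣ X ^ (q ^ k + 1) - 1 := by
    intro h hh
    obtain ⟨h1, h2, h3, h4⟩ := hT1I hh
    obtain ⟨hi, hm, -, hc⟩ := factor_facts h0 h1
    exact sc_order hi hm hc h4 h2 h3
  have hT2 : ∀ h ∈ T2, h.natDegree ≠ 0 ∧ h ∣ X ^ (q ^ h.natDegree - 1) - 1 := by
    intro h hh
    obtain ⟨h1, -, -, -⟩ := hT2I hh
    obtain ⟨hi, hm, -, hc⟩ := factor_facts h0 h1
    exact ⟨hi.natDegree_pos.ne', dvd_pow_sub_one hi hc⟩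
  have hstar : ∀ h ∈ T2, ∃ h' ∈ T2, h' ≠ h ∧ h'.natDegree = h.natDegree ∧ e h ≤ e h' := by
    intro h hh
    obtain ⟨h1, h2, h3, h4⟩ := hT2I hh
    obtain ⟨h5, h6, h7, h8⟩ := star_facts hμ0 h0 hrev h1
    set h' := normalize h.reverse with hh'
    obtain ⟨hi, hm, -, hc⟩ := factor_facts h0 h1
    obtain ⟨hi', hm', -, hc'⟩ := factor_facts h0 h5
    refine ⟨h', ?_, h8 h4, h6, h7⟩
    have hd1 : h.natDegree = 1 ∨ True := Or.inr trivial
    -- h' is neither linear special factor and not self-reciprocal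
    have hnot : ¬ h' ∣ h'.reverse := by
      intro hdv
      apply h4
      obtain ⟨u, hu⟩ := associated_normalize h.reverse
      obtain ⟨c, hc1, hc2⟩ := Polynomial.isUnit_iff.1 u.isUnit
      have hrr : h'.reverse = h * C c := by
        rw [hh', ← hu, reverse_mul_of_domain, rev_rev hc, ← hc2, reverse_C]
      have hunit : IsUnit (C c : F[X]) := isUnit_C.2 hc1
      have h1' : h' ∣ h := by
        have := hdv
        rw [hrr] at this
        exact (IsUnit.dvd_mul_right hunit).1 this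
      have hdiv : h.reverse ∣ h := normalize_dvd_iff.1 h1'
      exact (irreducible_rev hi hc).dvd_symm hi hdiv
    have hne1 : h' ≠ X - 1 := by
      intro heq
      apply hnot
      rw [heq]
      have : (X - 1 : F[X]).reverse = 1 - X := rev_xsub
      rw [this]
      exact ⟨-1, by ring⟩
    have hne2 : h' ≠ X + 1 := by
      intro heq
      apply hnot
      rw [heq]
      have : (X + 1 : F[X]).reverse = 1 + X := rev_xadd
      rw [this, add_comm]
    exact Finset.mem_filter.2 ⟨Finset.mem_filter.2 ⟨hmemI.2 h5, hne1, hne2⟩, hnot⟩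
  have hS0 : ∀ k ∈ S, k ≠ 0 := by
    intro k hk
    obtain ⟨h, hh, rfl⟩ := Finset.mem_image.1 hk
    obtain ⟨k, h1, h2, -⟩ := hT1 h hh
    rw [h1]; simpa using h2
  have hP0 : ∀ k ∈ P, k ≠ 0 := by
    intro k hk
    obtain ⟨h, hh, rfl⟩ := Finset.mem_image.1 hk
    exact (hT2 h hh).1
  have hSsum : ∑ k ∈ S, k ≤ ∑ h ∈ T1, h.natDegree / 2 := by
    have := fiber_sum T1 (fun h => h.natDegree / 2) 1 (fun h hh =>
      Finset.card_pos.2 ⟨h, Finset.mem_filter.2 ⟨hh, rfl⟩⟩)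
    simpa using this
  have hPsum : 2 * ∑ k ∈ P, k ≤ ∑ h ∈ T2, h.natDegree := by
    refine fiber_sum T2 natDegree 2 (fun h hh => ?_)
    obtain ⟨h', hh', hne, hd', -⟩ := hstar h hh
    exact Finset.one_lt_card.2 ⟨h, Finset.mem_filter.2 ⟨hh, rfl⟩, h',
      Finset.mem_filter.2 ⟨hh', hd'⟩, hne.symm⟩
  have hT1deg : ∑ h ∈ T1, h.natDegree = 2 * ∑ h ∈ T1, h.natDegree / 2 := by
    rw [Finset.mul_sum]
    refine Finset.sum_congr rfl fun h hh => ?_
    obtain ⟨k, h1, -, -⟩ := hT1 h hh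
    rw [h1]; omega
  -- accounting
  have he1 : ∀ h ∈ I, 1 ≤ e h := fun h hh => Multiset.count_pos.2 (hmemI.1 hh)
  set ψ : F[X] → ℕ := fun h => (e h - 1) * h.natDegree with hψ
  have hW : μ.natDegree = ∑ h ∈ I, h.natDegree + ∑ h ∈ I, ψ h := by
    rw [← hdeg, ← Finset.sum_add_distrib]
    refine Finset.sum_congr rfl fun h hh => ?_
    have := he1 h hh
    obtain ⟨r, hr⟩ : ∃ r, e h = r + 1 := ⟨e h - 1, by omega⟩
    have hr' : M.count h = r + 1 := hr
    simp only [hψ, hr, hr', Nat.add_sub_cancel]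
    ring
  have hsplit : ∑ h ∈ I, h.natDegree =
      ∑ h ∈ T1, h.natDegree + ∑ h ∈ T2, h.natDegree + ∑ h ∈ L, h.natDegree := by
    rw [← Finset.sum_filter_add_sum_filter_not I (fun h => h ≠ X - 1 ∧ h ≠ X + 1),
      ← Finset.sum_filter_add_sum_filter_not Nl (fun h => h ∣ h.reverse)]
  obtain ⟨f1, hf1, hf1a, hf1b⟩ := hex
  have hIne : I.Nonempty := ⟨f1, hmemI.2 hf1⟩
  obtain ⟨f0, hf0, hE⟩ := Finset.exists_mem_eq_sup I hIne e
  set E := I.sup e with hEd
  have hle : ∀ h ∈ I, e h ≤ E := fun h hh => Finset.le_sup hh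
  have hE1 : 1 ≤ E := by rw [hE]; exact he1 f0 hf0
  have hψle : ∀ h ∈ I, ψ h ≤ ∑ h ∈ I, ψ h := fun h hh =>
    Finset.single_le_sum (f := ψ) (fun _ _ => Nat.zero_le _) hh
  -- the exponent
  have hexa : ∃ a, E ≤ p ^ a ∧ ∑ k ∈ S, k + ∑ k ∈ P, k + a ≤ m := by
    have hmem : f0 ∈ T1 ∨ f0 ∈ T2 ∨ f0 ∈ L := by
      by_cases h1 : f0 ≠ X - 1 ∧ f0 ≠ X + 1
      · by_cases h2 : f0 ∣ f0.reverse
        · exact Or.inl (Finset.mem_filter.2 ⟨Finset.mem_filter.2 ⟨hf0, h1⟩, h2⟩)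
        · exact Or.inr (Or.inl (Finset.mem_filter.2 ⟨Finset.mem_filter.2 ⟨hf0, h1⟩, h2⟩))
      · exact Or.inr (Or.inr (Finset.mem_filter.2 ⟨hf0, h1⟩))
    have hsm1 : E ≤ p ^ (E - 1) :=
      (le_two_pow_pred E hE1).trans (Nat.pow_le_pow_left hp2 _)
    rcases hmem with h | h | h
    · refine ⟨E - 1, hsm1, ?_⟩
      obtain ⟨k, h1, h2, -⟩ := hT1 f0 h
      have h3 : ψ f0 = (E - 1) * f0.natDegree := by simp only [hψ, hE]
      have h4 : 2 * (E - 1) ≤ ψ f0 := by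
        rw [h3, h1]
        have : 2 ≤ 2 * k := by omega
        nlinarith
      have h5 := hψle f0 hf0
      omega
    · refine ⟨E - 1, hsm1, ?_⟩
      obtain ⟨h', hh', hne, hd', hc'⟩ := hstar f0 h
      have h3 := (hT2 f0 h).1
      have hh'I : h' ∈ I := hmemI.2 (hT2I hh').1
      have h4 : E - 1 ≤ ψ f0 := by
        simp only [hψ, hE]
        exact Nat.le_mul_of_pos_right _ (Nat.pos_of_ne_zero h3)
      have h5 : E - 1 ≤ ψ h' := by
        have h6 : e f0 ≤ e h' := hc'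
        have h7 : E - 1 ≤ e h' - 1 := by rw [hE]; omega
        simp only [hψ]
        rw [hd']
        exact h7.trans (Nat.le_mul_of_pos_right _ (Nat.pos_of_ne_zero h3))
      have hsub : ({f0, h'} : Finset F[X]) ⊆ I := by
        intro x hx
        rcases Finset.mem_insert.1 hx with rfl | hx
        · exact hf0
        · rw [Finset.mem_singleton.1 hx]; exact hh'I
      have h6 := Finset.sum_le_sum_of_subset (f := ψ) hsub
      rw [Finset.sum_pair hne.symm] at h6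
      omega
    · refine ⟨(E + 1) / 2, (two_pow_half E).trans (Nat.pow_le_pow_left hp2 _), ?_⟩
      have hdeg1 : f0.natDegree = 1 := by
        obtain ⟨-, h2⟩ := Finset.mem_filter.1 h
        by_cases h3 : f0 = X - 1
        · rw [h3]; exact xsub_natDegree
        · have h4 : f0 = X + 1 := by
            by_contra h4
            exact h2 ⟨h3, h4⟩
          rw [h4]; exact xadd_natDegree
      have h3 : ψ f0 = E - 1 := by simp only [hψ, hE, hdeg1, mul_one]
      have h4 := hψle f0 hf0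
      have h5 : f0.natDegree ≤ ∑ h ∈ L, h.natDegree :=
        Finset.single_le_sum (f := natDegree) (fun _ _ => Nat.zero_le _) h
      omega
  obtain ⟨a, haE, ham⟩ := hexa
  -- the exponent Λ
  set L1 := S.lcm (fun k => q ^ k + 1) with hL1
  set P1 := P.prod (fun k => q ^ k - 1) with hP1
  have hL1pos : 0 < L1 := by
    rw [Nat.pos_iff_ne_zero, hL1, Ne, Finset.lcm_eq_zero_iff]
    simp
  have hP1pos : 0 < P1 := by
    refine Finset.prod_pos fun k hk => ?_
    have := Nat.one_lt_pow (hP0 k hk) (show 1 < q by omega)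
    omega
  have hΛpos : 0 < L1 * P1 := Nat.mul_pos hL1pos hP1pos
  have hT1div : ∀ h ∈ T1, h ∣ X ^ (L1 * P1) - 1 := by
    intro h hh
    obtain ⟨k, h1, h2, h3⟩ := hT1 h hh
    have hk : k ∈ S := Finset.mem_image.2 ⟨h, hh, by rw [h1]; omega⟩
    have : q ^ k + 1 ∣ L1 * P1 :=
      (Finset.dvd_lcm (f := fun k => q ^ k + 1) hk).trans (dvd_mul_right _ _)
    exact h3.trans (pow_sub_one_dvd this)
  have hT2div : ∀ h ∈ T2, h ∣ X ^ (L1 * P1) - 1 := by
    intro h hh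
    obtain ⟨h1, h2⟩ := hT2 h hh
    have hk : h.natDegree ∈ P := Finset.mem_image_of_mem _ hh
    have : q ^ h.natDegree - 1 ∣ L1 * P1 :=
      (Finset.dvd_prod_of_mem (fun k => q ^ k - 1) hk).trans (dvd_mul_left _ _)
    exact h2.trans (pow_sub_one_dvd this)
  have hone : (X - 1 : F[X]) ∣ X ^ (L1 * P1) - 1 := by
    simpa using sub_dvd_pow_sub_pow (X : F[X]) 1 (L1 * P1)
  have htwo : (X - 1 : F[X]) ≠ X + 1 → (X + 1 : F[X]) ∣ X ^ (L1 * P1) - 1 := by
    intro hne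
    have hp3 : p ≠ 2 := by
      intro hp
      subst hp
      apply hne
      rw [CharTwo.sub_eq_add]
    have hqodd : Odd q := by
      rw [hqn]; exact (hpp.odd_of_ne_two hp3).pow
    have hev : 2 ∣ L1 * P1 := by
      have hf1m : f1 ∈ Nl := Finset.mem_filter.2 ⟨hmemI.2 hf1, hf1a, hf1b⟩
      by_cases hsc : f1 ∣ f1.reverse
      · have hh : f1 ∈ T1 := Finset.mem_filter.2 ⟨hf1m, hsc⟩
        obtain ⟨k, h1, -, -⟩ := hT1 f1 hh
        have hk : k ∈ S := Finset.mem_image.2 ⟨f1, hh, by rw [h1]; omega⟩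
        have h2 : q ^ k + 1 ∣ L1 :=
          Finset.dvd_lcm (f := fun k => q ^ k + 1) hk
        have h3 : 2 ∣ q ^ k + 1 := (Odd.add_one hqodd.pow).two_dvd
        exact (h3.trans h2).trans (dvd_mul_right _ _)
      · have hh : f1 ∈ T2 := Finset.mem_filter.2 ⟨hf1m, hsc⟩
        have hk : f1.natDegree ∈ P := Finset.mem_image_of_mem _ hh
        have h2 : q ^ f1.natDegree - 1 ∣ P1 :=
          Finset.dvd_prod_of_mem (fun k => q ^ k - 1) hk
        have h3 : 2 ∣ q ^ f1.natDegree - 1 :=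
          (Nat.Odd.sub_odd hqodd.pow odd_one).two_dvd
        exact (h3.trans h2).trans (dvd_mul_left _ _)
    have h4 : (X + 1 : F[X]) ∣ X ^ 2 - 1 := ⟨X - 1, by ring⟩
    exact h4.trans (pow_sub_one_dvd hev)
  have hall : ∀ f ∈ M, f ∣ X ^ (L1 * P1) - 1 := by
    intro f hf
    by_cases h1 : f ≠ X - 1 ∧ f ≠ X + 1
    · have hfm : f ∈ Nl := Finset.mem_filter.2 ⟨hmemI.2 hf, h1⟩
      by_cases hsc : f ∣ f.reverse
      · exact hT1div f (Finset.mem_filter.2 ⟨hfm, hsc⟩)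
      · exact hT2div f (Finset.mem_filter.2 ⟨hfm, hsc⟩)
    · by_cases h3 : f = X - 1
      · rw [h3]; exact hone
      · have h4 : f = X + 1 := by
          by_contra h4
          exact h1 ⟨h3, h4⟩
        rw [h4]
        by_cases h5 : (X - 1 : F[X]) = X + 1
        · rw [← h5]; exact hone
        · exact htwo h5
  have hR : (X ^ (L1 * P1) - 1 : F[X]) ≠ 0 := by
    simpa using X_pow_sub_C_ne_zero hΛpos (1 : F)
  have hdvd := dvd_of_factors μ (X ^ (L1 * P1) - 1) hμ0 hR (p ^ a) hall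
    (fun f hf => (hle f (hmemI.2 hf)).trans haE)
  rw [sub_pow_char_pow, one_pow, ← pow_mul] at hdvd
  refine ⟨L1 * P1 * p ^ a, by positivity, ?_, Or.inl hdvd⟩
  have hb1 : (q - 1) * L1 ≤ q ^ (1 + ∑ k ∈ S, k) := (lcm_bound q hq2 S hS0).le
  have hb2 : P1 ≤ q ^ ∑ k ∈ P, k := by
    have : P1 ≤ P.prod (fun k => q ^ k) := Finset.prod_le_prod (fun _ _ => Nat.zero_le _)
      (fun k _ => Nat.sub_le _ _)
    exact this.trans_eq (by simpa using Finset.prod_pow_eq_pow_sum P (fun k => k) q)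
  have hb3 : p ^ a ≤ q ^ a := Nat.pow_le_pow_left hpq a
  calc (q - 1) * (L1 * P1 * p ^ a) = ((q - 1) * L1) * P1 * p ^ a := by ring
    _ ≤ (q ^ (1 + ∑ k ∈ S, k) * q ^ (∑ k ∈ P, k)) * q ^ a :=
        Nat.mul_le_mul (Nat.mul_le_mul hb1 hb2) hb3
    _ = q ^ (1 + ∑ k ∈ S, k + ∑ k ∈ P, k + a) := by rw [← pow_add, ← pow_add]
    _ ≤ q ^ (m + 1) := Nat.pow_le_pow_right (by omega) (by omega)

end Cfsg.Agent.H28.PSpOrd
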